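import Groth.Agent.GaDual.Lazard

/-!
A polynomial substitute for the Artin–Hasse exponential in characteristic `p`.
-/

set_option autoImplicit false

open Polynomial ArithmeticFunction

namespace Groth.Agent.GaDual.AH

variable (p : ℕ) [Fact p.Prime]

/-- exponent `e` with `e * n = -μ n` in `ZMod p` -/
noncomputable def expo (n : ℕ) : ℕ := (-(moebius n : ZMod p) / (n : ZMod p)).val

/-- the index set -/
def idx (N : ℕ) : Finset ℕ := (Finset.range (N + 1)).filter fun n => ¬ p ∣ n

/-- The truncated Artin–Hasse series. -/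
noncomputable def F (N : ℕ) : (ZMod p)[X] := ∏ n ∈ idx p N, (1 - X ^ n) ^ expo p n

/-- truncation of the additive series `∑ X ^ p ^ k` -/
noncomputable def Φ (N : ℕ) : (ZMod p)[X] := ∑ k ∈ Finset.range (N + 1), X ^ p ^ k

noncomputable def L (N : ℕ) : (ZMod p)[X] :=
  ∑ n ∈ idx p N, C (moebius n : ZMod p) * (X ^ n * ∑ k ∈ Finset.range (N + 1), X ^ (n * k))

theorem idx_pos {N n : ℕ} (h : n ∈ idx p N) : 0 < n ∧ ¬ p ∣ n := by
  rw [idx, Finset.mem_filter] at h
  exact ⟨Nat.pos_of_ne_zero fun h0 => h.2 (h0 ▸ dvd_zero p), h.2⟩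

theorem cast_expo {n : ℕ} (h : ¬ p ∣ n) :
    (expo p n : ZMod p) * (n : ZMod p) = -(moebius n : ZMod p) := by
  rw [expo, ZMod.natCast_zmod_val, div_mul_cancel₀]
  rwa [Ne, ZMod.natCast_eq_zero_iff]

theorem factor_logDeriv (N : ℕ) {n : ℕ} (hn : n ∈ idx p N) :
    X ^ (N + 1) ∣ X * derivative ((1 - X ^ n : (ZMod p)[X]) ^ expo p n) -
      (1 - X ^ n) ^ expo p n *
        (C (moebius n : ZMod p) * (X ^ n * ∑ k ∈ Finset.range (N + 1), X ^ (n * k))) := by
  obtain ⟨hn0, hnp⟩ := idx_pos p hn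
  set P : (ZMod p)[X] := (1 - X ^ n) ^ expo p n
  set S : (ZMod p)[X] := ∑ k ∈ Finset.range (N + 1), X ^ (n * k)
  have hS : (1 - X ^ n) * S = 1 - X ^ (n * (N + 1)) := by
    simp only [S, pow_mul]
    exact mul_neg_geom_sum _ _
  have hd : (1 - X ^ n) * (X * derivative P) = C (moebius n : ZMod p) * X ^ n * P := by
    simp only [P, derivative_pow, map_sub, derivative_one, derivative_X, mul_one, zero_sub]
    rcases Nat.eq_zero_or_pos (expo p n) with he | he
    · have := cast_expo p hnp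
      rw [he, Nat.cast_zero, zero_mul] at this
      simp [he, neg_eq_zero.mp this.symm]
    · obtain ⟨e, he'⟩ : ∃ e, expo p n = e + 1 := ⟨expo p n - 1, by omega⟩
      obtain ⟨m, hm⟩ : ∃ m, n = m + 1 := ⟨n - 1, by omega⟩
      have hc : C ((expo p n : ZMod p)) * C (n : ZMod p) = -C (moebius n : ZMod p) := by
        rw [← C_mul, cast_expo p hnp, map_neg]
      rw [he'] at hc ⊢
      rw [hm] at hc ⊢
      simp only [Nat.add_sub_cancel]
      linear_combination (-(X : (ZMod p)[X]) ^ (m + 1) * (1 - X ^ (m + 1)) ^ (e + 1)) * hc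
  have key : (X * derivative P) * (1 - X ^ (n * (N + 1))) = P * (C (moebius n : ZMod p) * (X ^ n * S)) := by
    rw [← hS]; linear_combination S * hd
  have : X * derivative P - P * (C (moebius n : ZMod p) * (X ^ n * S)) =
      X * derivative P * X ^ (n * (N + 1)) := by linear_combination key
  rw [this]
  exact Dvd.dvd.mul_left (pow_dvd_pow X (Nat.le_mul_of_pos_left _ hn0)) _

theorem prod_logDeriv {ι A : Type*} [CommRing A] (T : A[X]) (s : Finset ι) (P Lam : ι → A[X])
    (h : ∀ i ∈ s, T ∣ X * derivative (P i) - P i * Lam i) :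
    T ∣ X * derivative (∏ i ∈ s, P i) - (∏ i ∈ s, P i) * ∑ i ∈ s, Lam i := by
  classical
  induction s using Finset.induction with
  | empty => simp
  | insert a s ha ih =>
    rw [Finset.prod_insert ha, Finset.sum_insert ha, derivative_mul]
    obtain ⟨u, hu⟩ := h a (Finset.mem_insert_self a s)
    obtain ⟨v, hv⟩ := ih fun i hi => h i (Finset.mem_insert_of_mem hi)
    exact ⟨u * ∏ i ∈ s, P i + P a * v, by linear_combination (∏ i ∈ s, P i) * hu + P a * hv⟩

theorem coeff_L {N m : ℕ} (hm : m ≤ N) : (L p N).coeff m = (Φ p N).coeff m := by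
  have hp : p.Prime := Fact.out
  classical
  have hL : (L p N).coeff m = ∑ n ∈ idx p N,
      if n ∣ m ∧ 0 < m then (moebius n : ZMod p) else 0 := by
    rw [L, finsetSum_coeff]
    refine Finset.sum_congr rfl fun n hn => ?_
    obtain ⟨hn0, -⟩ := idx_pos p hn
    simp only [Finset.mul_sum, finsetSum_coeff, ← pow_add, coeff_C_mul_X_pow]
    split_ifs with h
    · obtain ⟨⟨c, hc⟩, hm0⟩ := h
      obtain ⟨c', rfl⟩ : ∃ c', c = c' + 1 := ⟨c - 1, by rcases c with _ | c <;> simp at hc ⊢; omega⟩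
      rw [Finset.sum_eq_single c']
      · rw [if_pos (by rw [hc]; ring)]
      · intro b _ hb
        exact if_neg fun h => hb (by rw [hc] at h; nlinarith)
      · intro hc'
        exfalso; apply hc'
        rw [Finset.mem_range]
        nlinarith
    · refine Finset.sum_eq_zero fun k _ => if_neg fun hk => h ⟨⟨k + 1, by rw [hk]; ring⟩, by omega⟩
  have hΦ : (Φ p N).coeff m = if ∃ k, m = p ^ k then 1 else 0 := by
    simp only [Φ, finsetSum_coeff, coeff_X_pow]
    split_ifs with h
    · obtain ⟨k, rfl⟩ := h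
      rw [Finset.sum_eq_single k]
      · simp
      · intro b _ hb; exact if_neg fun h => hb (Nat.pow_right_injective hp.two_le h).symm
      · intro hk
        exfalso; apply hk
        rw [Finset.mem_range]
        have := Nat.lt_pow_self (n := k) hp.one_lt
        omega
    · exact Finset.sum_eq_zero fun k _ => if_neg fun hk => h ⟨k, hk⟩
  rw [hL, hΦ]
  rcases Nat.eq_zero_or_pos m with rfl | hm0
  · rw [if_neg fun ⟨k, hk⟩ => absurd hk.symm (pow_ne_zero k hp.ne_zero)]
    exact Finset.sum_eq_zero fun n _ => if_neg (by omega)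
  obtain ⟨m', hm'⟩ : p ^ padicValNat p m ∣ m := pow_padicValNat_dvd
  have hpm' : ¬ p ∣ m' := by
    rintro ⟨w, rfl⟩
    refine pow_succ_padicValNat_not_dvd (p := p) (show m ≠ 0 by omega) ⟨w, ?_⟩
    rw [pow_succ, mul_assoc]; exact hm'
  have hm'0 : m' ≠ 0 := fun h => hpm' (h ▸ dvd_zero p)
  rw [← Finset.sum_filter]
  have hset : (idx p N).filter (fun n => n ∣ m ∧ 0 < m) = m'.divisors := by
    ext n
    simp only [Finset.mem_filter, idx, Finset.mem_range, Nat.mem_divisors]
    constructor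
    · rintro ⟨⟨-, hn⟩, hd, -⟩
      refine ⟨?_, hm'0⟩
      rw [hm'] at hd
      exact (Nat.Coprime.pow_right _ ((hp.coprime_iff_not_dvd.mpr hn).symm)).dvd_of_dvd_mul_left hd
    · rintro ⟨hd, -⟩
      have hdm : n ∣ m := hm' ▸ Dvd.dvd.mul_left hd _
      exact ⟨⟨by have := Nat.le_of_dvd hm0 hdm; omega, fun h => hpm' (h.trans hd)⟩, hdm, hm0⟩
  rw [hset]
  have hmu : ((moebius : ArithmeticFunction ℤ) : ArithmeticFunction (ZMod p)) * (ArithmeticFunction.zeta : ArithmeticFunction (ZMod p)) = 1 :=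
    coe_moebius_mul_coe_zeta
  have := congrArg (fun f : ArithmeticFunction (ZMod p) => f m') hmu
  simp only [coe_mul_zeta_apply, one_apply, intCoe_apply] at this
  rw [this]
  refine if_congr ⟨fun h => ⟨padicValNat p m, by rw [hm'] ; simp [h]⟩, ?_⟩ rfl rfl
  rintro ⟨k, hk⟩
  have : m' ∣ p ^ k := hk ▸ ⟨p ^ padicValNat p m, by rw [mul_comm]; exact hm'⟩
  obtain ⟨i, -, hi⟩ := (Nat.dvd_prime_pow hp).mp this
  rcases i with _ | i
  · simpa using hi
  · exact absurd (hi ▸ dvd_pow_self p (Nat.succ_ne_zero i)) hpm'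

theorem logDeriv_F (N : ℕ) : X ^ (N + 1) ∣ X * derivative (F p N) - F p N * Φ p N := by
  obtain ⟨u, hu⟩ := prod_logDeriv (X ^ (N + 1)) (idx p N) _ _ (fun n hn => factor_logDeriv p N hn)
  have h2 : X ^ (N + 1) ∣ L p N - Φ p N := by
    rw [X_pow_dvd_iff]
    intro d hd
    rw [coeff_sub, coeff_L p (by omega), sub_self]
  obtain ⟨v, hv⟩ := h2
  refine ⟨u + F p N * v, ?_⟩
  simp only [F, L] at hu hv ⊢
  linear_combination hu + (∏ n ∈ idx p N, (1 - X ^ n) ^ expo p n) * hv

theorem F_coeff_zero (N : ℕ) : (F p N).coeff 0 = 1 := by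
  rw [coeff_zero_eq_eval_zero, F, eval_prod]
  refine Finset.prod_eq_one fun n hn => ?_
  have := (idx_pos p hn).1
  simp [zero_pow (by omega : n ≠ 0)]

theorem F_coeff {N j : ℕ} (hj : j < p) (hjN : j ≤ N) :
    ((j.factorial : ℕ) : ZMod p) * (F p N).coeff j = 1 := by
  have hp : p.Prime := Fact.out
  induction j with
  | zero => simp [F_coeff_zero]
  | succ j ih =>
    obtain ⟨u, hu⟩ := logDeriv_F p N
    have h := congrArg (fun q => q.coeff (j + 1)) hu
    simp only [coeff_sub, coeff_X_mul, coeff_derivative, coeff_X_pow_mul'] at h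
    rw [if_neg (by omega), sub_eq_zero, coeff_mul, Finset.sum_eq_single (j, 1)] at h
    · rw [show (Φ p N).coeff 1 = 1 from ?_, mul_one] at h
      · rw [Nat.factorial_succ, Nat.cast_mul, ← ih (by omega) (by omega), ← h]
        push_cast
        ring
      · simp only [Φ, finsetSum_coeff, coeff_X_pow]
        rw [Finset.sum_eq_single 0]
        · simp
        · intro b _ hb
          refine if_neg fun h => ?_
          have : 1 < p ^ b := Nat.one_lt_pow hb hp.one_lt
          omega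
        · simp
    · intro x hx hne
      rw [Finset.HasAntidiagonal.mem_antidiagonal] at hx
      have : (Φ p N).coeff x.2 = 0 := by
        simp only [Φ, finsetSum_coeff, coeff_X_pow]
        refine Finset.sum_eq_zero fun k _ => if_neg fun hk => ?_
        rcases k with _ | k
        · exact hne (Prod.ext (by simp at hk; omega) (by simpa using hk))
        · have : p ≤ p ^ (k + 1) := Nat.le_self_pow (Nat.succ_ne_zero k) p
          omega
      rw [this, mul_zero]
    · intro h'
      exact absurd (Finset.HasAntidiagonal.mem_antidiagonal.mpr (show j + 1 = j + 1 from rfl)) h'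

/-- `F(yT)` for `y` in `k = ZMod p[s, u]`. -/
noncomputable def Fsub (N : ℕ) (y : MvPolynomial (Fin 2) (ZMod p)) : (MvPolynomial (Fin 2) (ZMod p))[X] :=
  aeval (C y * X) (F p N)

/-- universal ratio -/
noncomputable def Q (N : ℕ) : (MvPolynomial (Fin 2) (ZMod p))[X] :=
  Fsub p N (MvPolynomial.X 0 + MvPolynomial.X 1) * Fsub p N (MvPolynomial.X 0) ^ (p - 1) *
    Fsub p N (MvPolynomial.X 1) ^ (p - 1)

theorem coeff_Fsub (N : ℕ) (y : MvPolynomial (Fin 2) (ZMod p)) (j : ℕ) :
    (Fsub p N y).coeff j = algebraMap (ZMod p) _ ((F p N).coeff j) * y ^ j := by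
  rw [Fsub]
  induction F p N using Polynomial.induction_on' with
  | add f g hf hg => rw [map_add, coeff_add, hf, hg, coeff_add, map_add, add_mul]
  | monomial n r =>
    rw [aeval_monomial, mul_pow, ← C_pow, IsScalarTower.algebraMap_apply (ZMod p) (MvPolynomial (Fin 2) (ZMod p)) (MvPolynomial (Fin 2) (ZMod p))[X], algebraMap_eq, ← mul_assoc, ← C_mul, coeff_C_mul_X_pow, coeff_monomial]
    by_cases h : j = n
    · subst h; simp
    · rw [if_neg h, if_neg (Ne.symm h), _root_.map_zero, zero_mul]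

theorem logDeriv_Fsub (N : ℕ) (y : MvPolynomial (Fin 2) (ZMod p)) :
    X ^ (N + 1) ∣ X * derivative (Fsub p N y) -
      Fsub p N y * ∑ k ∈ Finset.range (N + 1), (C y * X) ^ p ^ k := by
  obtain ⟨u, hu⟩ := logDeriv_F p N
  have h := congrArg (aeval (C y * X : (MvPolynomial (Fin 2) (ZMod p))[X])) hu
  simp only [map_sub, map_mul, map_pow, aeval_X, Φ, map_sum] at h
  have hd : X * derivative (Fsub p N y) = C y * X * aeval (C y * X) (derivative (F p N)) := by
    rw [Fsub]
    induction F p N using Polynomial.induction_on' with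
    | add f g hf hg => simp only [map_add, mul_add, hf, hg]
    | monomial n r =>
      rw [aeval_monomial, derivative_monomial, aeval_monomial, mul_pow, ← C_pow,
        IsScalarTower.algebraMap_apply (ZMod p) (MvPolynomial (Fin 2) (ZMod p)) (MvPolynomial (Fin 2) (ZMod p))[X],
        algebraMap_eq, ← mul_assoc, ← C_mul, derivative_C_mul_X_pow]
      rcases n with _ | n
      · simp
      · rw [IsScalarTower.algebraMap_apply (ZMod p) (MvPolynomial (Fin 2) (ZMod p)) (MvPolynomial (Fin 2) (ZMod p))[X],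
          algebraMap_eq]
        simp only [Nat.add_sub_cancel, map_mul, map_natCast, mul_pow, pow_succ, map_pow]
        ring
  rw [hd]
  refine ⟨C y ^ (N + 1) * aeval (C y * X) u, ?_⟩
  rw [Fsub]
  linear_combination h

theorem Q_coeff_eq_zero (N m : ℕ) (hm : m ≤ N) (hpm : ¬ p ∣ m) : (Q p N).coeff m = 0 := by
  have hp : p.Prime := Fact.out
  let s : MvPolynomial (Fin 2) (ZMod p) := MvPolynomial.X 0
  let u : MvPolynomial (Fin 2) (ZMod p) := MvPolynomial.X 1
  have hq : ∀ (P Lam : (MvPolynomial (Fin 2) (ZMod p))[X]) (e : ℕ),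
      X ^ (N + 1) ∣ X * derivative P - P * Lam →
      X ^ (N + 1) ∣ X * derivative (P ^ e) - P ^ e * ((e : (MvPolynomial (Fin 2) (ZMod p))[X]) * Lam) := by
    intro P Lam e h
    have := prod_logDeriv (X ^ (N + 1)) (Finset.range e) (fun _ => P) (fun _ => Lam) (fun _ _ => h)
    simpa [Finset.prod_const, Finset.sum_const, nsmul_eq_mul] using this
  obtain ⟨a, ha⟩ := logDeriv_Fsub p N (s + u)
  obtain ⟨b, hb⟩ := hq _ _ (p - 1) (logDeriv_Fsub p N s)
  obtain ⟨c, hc⟩ := hq _ _ (p - 1) (logDeriv_Fsub p N u)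
  have hsum : (∑ k ∈ Finset.range (N + 1), (C (s + u) * X) ^ p ^ k) +
      ((p - 1 : ℕ) : (MvPolynomial (Fin 2) (ZMod p))[X]) * (∑ k ∈ Finset.range (N + 1), (C s * X) ^ p ^ k) +
      ((p - 1 : ℕ) : (MvPolynomial (Fin 2) (ZMod p))[X]) * (∑ k ∈ Finset.range (N + 1), (C u * X) ^ p ^ k) = 0 := by
    rw [Nat.cast_sub hp.one_le, CharP.cast_eq_zero, Nat.cast_one, zero_sub]
    simp only [map_add, add_mul, add_pow_char_pow, Finset.sum_add_distrib]
    ring
  have hdiv : X ^ (N + 1) ∣ X * derivative (Q p N) := by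
    refine ⟨a * Fsub p N s ^ (p - 1) * Fsub p N u ^ (p - 1) +
      Fsub p N (s + u) * b * Fsub p N u ^ (p - 1) + Fsub p N (s + u) * Fsub p N s ^ (p - 1) * c, ?_⟩
    simp only [Q, derivative_mul]
    linear_combination (Fsub p N s ^ (p - 1) * Fsub p N u ^ (p - 1)) * ha +
      (Fsub p N (s + u) * Fsub p N u ^ (p - 1)) * hb +
      (Fsub p N (s + u) * Fsub p N s ^ (p - 1)) * hc +
      (Fsub p N (s + u) * Fsub p N s ^ (p - 1) * Fsub p N u ^ (p - 1)) * hsum
  rcases m with _ | m
  · exact absurd (dvd_zero p) hpm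
  have h0 := X_pow_dvd_iff.mp hdiv (m + 1) (by omega)
  rw [coeff_X_mul, coeff_derivative] at h0
  refine (mul_eq_zero.mp h0).resolve_right fun h => hpm ?_
  rw [← Nat.cast_add_one] at h
  exact (CharP.cast_eq_zero_iff (MvPolynomial (Fin 2) (ZMod p)) p _).mp h

theorem Fsub_pow (N : ℕ) (y : MvPolynomial (Fin 2) (ZMod p)) :
    Fsub p N y ^ p = expand (MvPolynomial (Fin 2) (ZMod p)) p (aeval (C (y ^ p) * X) (F p N)) := by
  rw [Fsub, ← map_pow, ← ZMod.expand_card, expand_aeval]
  induction F p N using Polynomial.induction_on' with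
  | add f g hf hg => simp only [map_add, hf, hg]
  | monomial n r =>
    simp only [aeval_monomial, map_mul, map_pow, expand_X, expand_C, mul_pow,
      IsScalarTower.algebraMap_apply (ZMod p) (MvPolynomial (Fin 2) (ZMod p)) (MvPolynomial (Fin 2) (ZMod p))[X],
      algebraMap_eq]

theorem Q_coeff_zero (N : ℕ) : (Q p N).coeff 0 = 1 := by
  simp [Q, coeff_zero_eq_eval_zero, eval_mul, eval_pow]
  simp [← coeff_zero_eq_eval_zero, coeff_Fsub, F_coeff_zero]

omit [Fact p.Prime] in
theorem coeff_mul_low {A : Type*} [CommRing A] (P R : A[X]) (hP0 : P.coeff 0 = 1)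
    (hP : ∀ j, 0 < j → j < p → P.coeff j = 0) {j : ℕ} (hj0 : 0 < j) (hj : j ≤ p) :
    (P * R).coeff j = R.coeff j + P.coeff j * R.coeff 0 := by
  rw [coeff_mul, Finset.Nat.sum_antidiagonal_eq_sum_range_succ_mk, Finset.sum_range_succ,
    Finset.sum_eq_single 0, hP0, one_mul, Nat.sub_zero, Nat.sub_self]
  · intro b hb hb0
    rw [hP b (Nat.pos_of_ne_zero hb0) (by rw [Finset.mem_range] at hb; omega), zero_mul]
  · intro h; exact absurd (Finset.mem_range.mpr hj0) h

theorem coeff_Fsub_pow (N : ℕ) (hN : p ≤ N) (y : MvPolynomial (Fin 2) (ZMod p)) :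
    (Fsub p N y ^ p).coeff 0 = 1 ∧ (∀ j, 0 < j → j < p → (Fsub p N y ^ p).coeff j = 0) ∧
      (Fsub p N y ^ p).coeff p = y ^ p := by
  have hp : p.Prime := Fact.out
  have hf1 : (F p N).coeff 1 = 1 := by
    have := F_coeff p (N := N) (j := 1) hp.one_lt (by have := hp.two_le; omega)
    simpa using this
  have h : ∀ j, (Fsub p N y ^ p).coeff j =
      if p ∣ j then algebraMap (ZMod p) _ ((F p N).coeff (j / p)) * (y ^ p) ^ (j / p) else 0 := by
    intro j
    rw [Fsub_pow, coeff_expand hp.pos, ← Fsub, coeff_Fsub]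
  refine ⟨?_, fun j hj0 hj => ?_, ?_⟩
  · rw [h, if_pos (dvd_zero p), Nat.zero_div, F_coeff_zero, map_one, pow_zero, one_mul]
  · rw [h, if_neg (Nat.not_dvd_of_pos_of_lt hj0 hj)]
  · rw [h, if_pos dvd_rfl, Nat.div_self hp.pos, hf1, map_one, pow_one, one_mul]

theorem F_coeff_mul (N : ℕ) (hN : p ≤ N) {j : ℕ} (hj0 : 0 < j) (hj : j < p) :
    -((F p N).coeff j * (F p N).coeff (p - j)) = ((p.choose j / p : ℕ) : ZMod p) := by
  have hp : p.Prime := Fact.out
  have hd : p ∣ p.choose j := hp.dvd_choose_self (by omega) hj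
  have hnat : p.choose j / p * j.factorial * (p - j).factorial = (p - 1).factorial := by
    apply Nat.eq_of_mul_eq_mul_left hp.pos
    rw [← mul_assoc, ← mul_assoc, Nat.mul_div_cancel' hd, Nat.choose_mul_factorial_mul_factorial hj.le,
      Nat.mul_factorial_pred hp.ne_zero]
  have hw := congrArg (Nat.cast : ℕ → ZMod p) hnat
  push_cast at hw
  rw [ZMod.wilsons_lemma] at hw
  have h1 := F_coeff p (N := N) hj (by omega)
  have h2 := F_coeff p (N := N) (j := p - j) (by omega) (by omega)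
  linear_combination (-(F p N).coeff j * (F p N).coeff (p - j)) * hw +
    ((p.choose j / p : ℕ) : ZMod p) * ((p - j).factorial : ZMod p) * (F p N).coeff (p - j) * h1 +
    ((p.choose j / p : ℕ) : ZMod p) * h2

theorem Q_coeff_p (N : ℕ) (hN : p ≤ N) :
    (Q p N).coeff p = MvPolynomial.X 0 ^ p + MvPolynomial.X 1 ^ p + Lazard.S p := by
  have hp : p.Prime := Fact.out
  let s : MvPolynomial (Fin 2) (ZMod p) := MvPolynomial.X 0
  let u : MvPolynomial (Fin 2) (ZMod p) := MvPolynomial.X 1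
  have hid : Q p N * (Fsub p N s * Fsub p N u) =
      (Fsub p N s ^ p * Fsub p N u ^ p) * Fsub p N (s + u) := by
    have : ∀ f : (MvPolynomial (Fin 2) (ZMod p))[X], f ^ p = f ^ (p - 1) * f := fun f => by
      rw [← pow_succ, Nat.sub_add_cancel hp.one_le]
    rw [this, this, Q]; ring
  obtain ⟨hs0, hs1, hsp⟩ := coeff_Fsub_pow p N hN s
  obtain ⟨hu0, hu1, hup⟩ := coeff_Fsub_pow p N hN u
  have hA0 : (Fsub p N s ^ p * Fsub p N u ^ p).coeff 0 = 1 := by rw [mul_coeff_zero, hs0, hu0, one_mul]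
  have hA : ∀ j, 0 < j → j < p → (Fsub p N s ^ p * Fsub p N u ^ p).coeff j = 0 := fun j h0 hj => by
    rw [coeff_mul_low p _ _ hs0 hs1 h0 hj.le, hu1 j h0 hj, hs1 j h0 hj, zero_mul, add_zero]
  have h := congrArg (fun q => q.coeff p) hid
  rw [coeff_mul_low p _ _ (Q_coeff_zero p N) (fun j h0 hj => Q_coeff_eq_zero p N j (by omega)
      (Nat.not_dvd_of_pos_of_lt h0 hj)) hp.pos le_rfl,
    coeff_mul_low p _ _ hA0 hA hp.pos le_rfl, coeff_mul_low p _ _ hs0 hs1 hp.pos le_rfl,
    hsp, hup, hu0, mul_one, mul_coeff_zero, coeff_mul, Finset.Nat.sum_antidiagonal_eq_sum_range_succ_mk,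
    Finset.sum_range_succ, Finset.range_eq_Ico, Finset.sum_eq_sum_Ico_succ_bot hp.pos] at h
  simp only [coeff_Fsub, F_coeff_zero, map_one, pow_zero, mul_one, one_mul, Nat.sub_self,
    Nat.sub_zero] at h
  rw [show Finset.Ico (0 + 1) p = Finset.Ioo 0 p from by
    ext a; simp only [Finset.mem_Ico, Finset.mem_Ioo]; omega, add_pow_char] at h
  have hS : (Lazard.S p : MvPolynomial (Fin 2) (ZMod p)) = -∑ j ∈ Finset.Ioo 0 p,
      algebraMap (ZMod p) _ ((F p N).coeff j) * s ^ j *
        (algebraMap (ZMod p) _ ((F p N).coeff (p - j)) * u ^ (p - j)) := by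
    rw [Lazard.S, ← Finset.sum_neg_distrib]
    refine Finset.sum_congr rfl fun j hj => ?_
    rw [Finset.mem_Ioo] at hj
    rw [← F_coeff_mul p N hN hj.1 hj.2, MvPolynomial.algebraMap_eq, map_neg, map_mul]
    ring
  rw [hS]
  simp only [s, u] at h ⊢
  linear_combination h

end Groth.Agent.GaDual.AH
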