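import Groth.Agent.GaDual.Lazard

/-!
Characters of the additive group, polynomial and formal.
-/

set_option autoImplicit false

namespace Groth.Agent.GaDual.Chars

open MvPolynomial Lazard

variable {A : Type*} [CommRing A]

theorem coeff_aeval_add (f : Polynomial A) (i j : ℕ) :
    coeff (e2 i j) (Polynomial.aeval (X 0 + X 1 : MvPolynomial (Fin 2) A) f) =
      ((i + j).choose i : A) * f.coeff (i + j) := by
  induction f using Polynomial.induction_on' with
  | add f g hf hg => rw [map_add, coeff_add, hf, hg, Polynomial.coeff_add, mul_add]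
  | monomial n r =>
    rw [Polynomial.aeval_monomial, algebraMap_eq, add_pow, Finset.mul_sum, coeff_sum,
      Polynomial.coeff_monomial]
    have : ∀ m, C r * (X 0 ^ m * X 1 ^ (n - m) * (n.choose m : MvPolynomial (Fin 2) A)) =
        monomial (e2 m (n - m)) (r * (n.choose m : A)) := fun m => by
      rw [monomial_eq, Finsupp.prod_fintype _ _ (fun _ => pow_zero _), C_mul, map_natCast]
      simp [Fin.prod_univ_two]
      ring
    simp only [this, coeff_monomial]
    by_cases h : n = i + j
    · subst h
      rw [if_pos rfl, Finset.sum_eq_single i]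
      · rw [if_pos (by rw [Nat.add_sub_cancel_left]), mul_comm]
      · intro m _ hm
        exact if_neg fun h => hm (by simpa using DFunLike.congr_fun h 0)
      · intro h'; exact absurd (Finset.mem_range.mpr (by omega)) h'
    · rw [if_neg h, mul_zero]
      refine Finset.sum_eq_zero fun m hm => if_neg fun h' => h ?_
      have h0 := DFunLike.congr_fun h' 0
      have h1 := DFunLike.congr_fun h' 1
      simp at h0 h1
      have := Finset.mem_range.mp hm
      omega

theorem coeff_aeval_mul (f g : Polynomial A) (i j : ℕ) :
    coeff (e2 i j) (Polynomial.aeval (X 0 : MvPolynomial (Fin 2) A) f * Polynomial.aeval (X 1) g) =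
      f.coeff i * g.coeff j := by
  induction f using Polynomial.induction_on' with
  | add f f' hf hf' => rw [map_add, add_mul, coeff_add, hf, hf', Polynomial.coeff_add, add_mul]
  | monomial n r =>
    induction g using Polynomial.induction_on' with
    | add g g' hg hg' => rw [map_add, mul_add, coeff_add, hg, hg', Polynomial.coeff_add, mul_add]
    | monomial l s =>
      simp only [Polynomial.aeval_monomial, algebraMap_eq, Polynomial.coeff_monomial]
      rw [show C r * X 0 ^ n * (C s * X 1 ^ l) = monomial (e2 n l) (r * s) from by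
        rw [monomial_eq, Finsupp.prod_fintype _ _ (fun _ => pow_zero _), C_mul]
        simp [Fin.prod_univ_two]
        ring, coeff_monomial]
      by_cases h1 : n = i <;> by_cases h2 : l = j <;>
        simp [h1, h2, DFunLike.ext_iff, Fin.forall_fin_succ]

theorem polyChar_iff (f : Polynomial A) :
    Polynomial.aeval (X 0 + X 1 : MvPolynomial (Fin 2) A) f =
        Polynomial.aeval (X 0) f * Polynomial.aeval (X 1) f ↔
      ∀ i j, f.coeff i * f.coeff j = ((i + j).choose i : A) * f.coeff (i + j) := by
  constructor
  · intro h i j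
    rw [← coeff_aeval_mul, ← h, coeff_aeval_add]
  · intro h
    refine MvPolynomial.ext _ _ fun d => ?_
    rw [eq_e2 d, coeff_aeval_add, coeff_aeval_mul, h]

theorem coeff_eq_zero_of_mem_span {P : ℕ} {g : MvPolynomial (Fin 2) A} {i j : ℕ} (hi : i < P)
    (hj : j < P) (hg : g ∈ Ideal.span {(X 0 ^ P : MvPolynomial (Fin 2) A), X 1 ^ P}) :
    coeff (e2 i j) g = 0 := by
  classical
  obtain ⟨a, b, rfl⟩ := Ideal.mem_span_pair.mp hg
  rw [coeff_add, X_pow_eq_monomial, X_pow_eq_monomial, coeff_mul_monomial', coeff_mul_monomial',
    if_neg, if_neg, add_zero]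
  · intro h
    have := h 1
    simp at this
    omega
  · intro h
    have := h 0
    simp at this
    omega

theorem subst_add_coeff (χ : PowerSeries A) (i j : ℕ) :
    MvPowerSeries.coeff (e2 i j)
      (PowerSeries.subst (MvPowerSeries.X 0 + MvPowerSeries.X 1 : MvPowerSeries (Fin 2) A) χ) =
      ((i + j).choose i : A) * PowerSeries.coeff (i + j) χ := by
  have hs : PowerSeries.HasSubst (MvPowerSeries.X 0 + MvPowerSeries.X 1 : MvPowerSeries (Fin 2) A) :=
    PowerSeries.HasSubst.of_constantCoeff_zero (by simp)
  have hpow : ∀ d, MvPowerSeries.coeff (e2 i j)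
      ((MvPowerSeries.X 0 + MvPowerSeries.X 1 : MvPowerSeries (Fin 2) A) ^ d) =
      if d = i + j then ((i + j).choose i : A) else 0 := by
    intro d
    have h : ((MvPowerSeries.X 0 + MvPowerSeries.X 1 : MvPowerSeries (Fin 2) A) ^ d) =
        ((Polynomial.aeval (X 0 + X 1 : MvPolynomial (Fin 2) A) ((Polynomial.X : Polynomial A) ^ d) :
          MvPolynomial (Fin 2) A) : MvPowerSeries (Fin 2) A) := by
      simp [Polynomial.aeval_X_pow]
    rw [h, MvPolynomial.coeff_coe, coeff_aeval_add, Polynomial.coeff_X_pow]
    by_cases hd : d = i + j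
    · rw [if_pos hd, if_pos hd.symm, mul_one]
    · rw [if_neg hd, if_neg (Ne.symm hd), mul_zero]
  rw [PowerSeries.coeff_subst hs, finsum_eq_single _ (i + j)]
  · rw [hpow, if_pos rfl, smul_eq_mul, mul_comm]
  · intro d hd
    rw [hpow, if_neg hd, smul_zero]

theorem subst_X_coeff (χ : PowerSeries A) (s : Fin 2) (e : Fin 2 →₀ ℕ) :
    MvPowerSeries.coeff e (PowerSeries.subst (MvPowerSeries.X s : MvPowerSeries (Fin 2) A) χ) =
      if e = Finsupp.single s (e s) then PowerSeries.coeff (e s) χ else 0 := by
  classical
  rw [PowerSeries.coeff_subst (PowerSeries.HasSubst.X s), finsum_eq_single _ (e s)]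
  · rw [MvPowerSeries.X_pow_eq, MvPowerSeries.coeff_monomial]
    split_ifs <;> simp
  · intro d hd
    rw [MvPowerSeries.X_pow_eq, MvPowerSeries.coeff_monomial, if_neg, smul_zero]
    intro h
    exact hd (by rw [h]; simp)

theorem formalChar_iff (χ : PowerSeries A) :
    PowerSeries.subst (MvPowerSeries.X 0 + MvPowerSeries.X 1 : MvPowerSeries (Fin 2) A) χ =
        PowerSeries.subst (MvPowerSeries.X 0 : MvPowerSeries (Fin 2) A) χ *
          PowerSeries.subst (MvPowerSeries.X 1 : MvPowerSeries (Fin 2) A) χ ↔
      ∀ i j, PowerSeries.coeff i χ * PowerSeries.coeff j χ =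
        ((i + j).choose i : A) * PowerSeries.coeff (i + j) χ := by
  classical
  have hprod : ∀ i j, MvPowerSeries.coeff (e2 i j)
      (PowerSeries.subst (MvPowerSeries.X 0 : MvPowerSeries (Fin 2) A) χ *
        PowerSeries.subst (MvPowerSeries.X 1 : MvPowerSeries (Fin 2) A) χ) =
      PowerSeries.coeff i χ * PowerSeries.coeff j χ := by
    intro i j
    rw [MvPowerSeries.coeff_mul, Finset.sum_eq_single (e2 i 0, e2 0 j)]
    · simp only [subst_X_coeff]
      rw [if_pos (by ext k; fin_cases k <;> simp), if_pos (by ext k; fin_cases k <;> simp)]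
      simp
    · rintro ⟨u, v⟩ huv hne
      rw [Finset.HasAntidiagonal.mem_antidiagonal] at huv
      rw [subst_X_coeff, subst_X_coeff]
      split_ifs with h1 h2
      · exfalso
        apply hne
        have a0 := DFunLike.congr_fun huv 0
        have a1 := DFunLike.congr_fun huv 1
        have b1 := DFunLike.congr_fun h1 1
        have b0 := DFunLike.congr_fun h2 0
        simp at a0 a1 b1 b0
        refine Prod.ext ?_ ?_ <;> ext k <;> fin_cases k <;> simp <;> omega
      all_goals simp
    · intro h
      exfalso; apply h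
      rw [Finset.HasAntidiagonal.mem_antidiagonal]
      ext k; fin_cases k <;> simp
  constructor
  · intro h i j
    rw [← hprod, ← h, subst_add_coeff]
  · intro h
    refine MvPowerSeries.ext fun d => ?_
    rw [eq_e2 d, subst_add_coeff, hprod, h]

/-! ### characteristic `p` -/

section CharP

variable (p : ℕ) [Fact p.Prime] [CharP A p]

/-- `exp_p(a T ^ (p ^ n))` -/
noncomputable abbrev expp (a : A) (n : ℕ) : Polynomial A :=
  ∑ j ∈ Finset.range p,
    Polynomial.C (Ring.inverse (j.factorial : A) * a ^ j) * Polynomial.X ^ (j * p ^ n)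

theorem isUnit_factorial {j : ℕ} (hj : j < p) : IsUnit ((j.factorial : ℕ) : A) :=
  isUnit_natCast_of_not_dvd p (CharP.cast_eq_zero A p)
    (fun h => not_le_of_gt hj ((Fact.out : p.Prime).dvd_factorial.mp h))

theorem expp_isChar (a : A) (ha : a ^ p = 0) (n : ℕ) :
    Polynomial.aeval (X 0 + X 1 : MvPolynomial (Fin 2) A) (expp p a n) =
      Polynomial.aeval (X 0) (expp p a n) * Polynomial.aeval (X 1) (expp p a n) := by
  have hp : p.Prime := Fact.out
  have hc : ∀ m, (expp p a 0).coeff m = if m < p then Ring.inverse (m.factorial : A) * a ^ m else 0 := by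
    intro m
    simp only [Polynomial.finsetSum_coeff, pow_zero, mul_one, Polynomial.coeff_C_mul_X_pow]
    rw [Finset.sum_ite_eq, ]
    simp only [Finset.mem_range]
  have h0 : Polynomial.aeval (X 0 + X 1 : MvPolynomial (Fin 2) A) (expp p a 0) =
      Polynomial.aeval (X 0) (expp p a 0) * Polynomial.aeval (X 1) (expp p a 0) := by
    rw [polyChar_iff]
    intro i j
    simp only [hc]
    by_cases hij : i + j < p
    · rw [if_pos (by omega), if_pos (by omega), if_pos hij]
      have hu := (isUnit_factorial (A := A) p hij)
      have key : ((i + j).choose i : A) * (i.factorial : A) * (j.factorial : A) =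
          ((i + j).factorial : A) := by
        rw [← Nat.cast_mul, ← Nat.cast_mul]
        congr 1
        conv_rhs => rw [← Nat.choose_mul_factorial_mul_factorial (Nat.le_add_right i j)]
        rw [Nat.add_sub_cancel_left]
      refine hu.mul_left_cancel ?_
      calc ((i + j).factorial : A) * (Ring.inverse (i.factorial : A) * a ^ i *
            (Ring.inverse (j.factorial : A) * a ^ j))
          = ((i + j).choose i : A) * ((i.factorial : A) * Ring.inverse (i.factorial : A)) *
              ((j.factorial : A) * Ring.inverse (j.factorial : A)) * a ^ (i + j) := by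
            rw [← key, pow_add]; ring
        _ = ((i + j).choose i : A) *
              (((i + j).factorial : A) * Ring.inverse ((i + j).factorial : A)) * a ^ (i + j) := by
            rw [Ring.mul_inverse_cancel _ (isUnit_factorial p (by omega)),
              Ring.mul_inverse_cancel _ (isUnit_factorial p (by omega)), Ring.mul_inverse_cancel _ hu]
            ring
        _ = _ := by ring
    · rw [if_neg hij, mul_zero]
      split_ifs
      · rw [show Ring.inverse (i.factorial : A) * a ^ i * (Ring.inverse (j.factorial : A) * a ^ j) =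
          Ring.inverse (i.factorial : A) * Ring.inverse (j.factorial : A) * a ^ (i + j) by
            rw [pow_add]; ring, pow_eq_zero_of_le (by omega) ha, mul_zero]
      all_goals simp
  have hexp : expp p a n = Polynomial.expand A (p ^ n) (expp p a 0) := by
    simp only [expp, map_sum, map_mul, map_pow, Polynomial.expand_C, Polynomial.expand_X, pow_zero,
      mul_one, ← pow_mul]
    exact Finset.sum_congr rfl fun j _ => by rw [mul_comm (p ^ n)]
  rw [hexp]
  simp only [Polynomial.expand_aeval, add_pow_char_pow]
  let φ : MvPolynomial (Fin 2) A →ₐ[A] MvPolynomial (Fin 2) A := aeval ![X 0 ^ p ^ n, X 1 ^ p ^ n]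
  have := congrArg φ h0
  simpa only [map_mul, ← Polynomial.aeval_algHom_apply, map_add, φ, aeval_X, Matrix.cons_val_zero,
    Matrix.cons_val_one] using this

theorem prod_isChar (a : ℕ → A) (ha : ∀ n, a n ^ p = 0) (N : ℕ) :
    (∏ n ∈ Finset.range N, expp p (a n) n).eval 0 = 1 ∧
    Polynomial.aeval (X 0 + X 1 : MvPolynomial (Fin 2) A) (∏ n ∈ Finset.range N, expp p (a n) n) =
      Polynomial.aeval (X 0) (∏ n ∈ Finset.range N, expp p (a n) n) *
        Polynomial.aeval (X 1) (∏ n ∈ Finset.range N, expp p (a n) n) := by
  have hp : p.Prime := Fact.out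
  constructor
  · rw [Polynomial.eval_prod]
    refine Finset.prod_eq_one fun n _ => ?_
    rw [Polynomial.eval_finsetSum, Finset.sum_eq_single 0]
    · simp
    · intro j _ hj
      simp [zero_pow (Nat.pos_iff_ne_zero.mp (Nat.mul_pos (Nat.pos_of_ne_zero hj) (pow_pos hp.pos n)))]
    · intro h; exact absurd (Finset.mem_range.mpr hp.pos) h
  · simp only [map_prod, ← Finset.prod_mul_distrib]
    exact Finset.prod_congr rfl fun n _ => expp_isChar p (a n) (ha n) n

theorem natDegree_prod_lt (a : ℕ → A) :
    ∀ N, (∏ n ∈ Finset.range N, expp p (a n) n).natDegree < p ^ N := by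
  have hp : p.Prime := Fact.out
  intro N
  induction N with
  | zero => simp
  | succ N ih =>
    rw [Finset.prod_range_succ]
    refine lt_of_le_of_lt Polynomial.natDegree_mul_le ?_
    have hd : (expp p (a N) N).natDegree ≤ (p - 1) * p ^ N := by
      refine Polynomial.natDegree_sum_le_of_forall_le _ _ fun j hj => ?_
      refine (Polynomial.natDegree_C_mul_X_pow_le _ _).trans (Nat.mul_le_mul_right _ ?_)
      have := Finset.mem_range.mp hj; omega
    calc (∏ n ∈ Finset.range N, expp p (a n) n).natDegree + (expp p (a N) N).natDegree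
        < p ^ N + (p - 1) * p ^ N := Nat.add_lt_add_of_lt_of_le ih hd
      _ = p ^ (N + 1) := by
        rw [pow_succ]
        conv_rhs => arg 2; rw [show p = 1 + (p - 1) by have := hp.pos; omega]
        ring

theorem coeff_prod_succ (a : ℕ → A) (N d r : ℕ) (hr : r < p ^ N) (hd : d < p) :
    (∏ n ∈ Finset.range (N + 1), expp p (a n) n).coeff (d * p ^ N + r) =
      (∏ n ∈ Finset.range N, expp p (a n) n).coeff r *
        (Ring.inverse (d.factorial : A) * a N ^ d) := by
  rw [Finset.prod_range_succ, Finset.mul_sum, Polynomial.finsetSum_coeff, Finset.sum_eq_single d]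
  · rw [← mul_assoc, Polynomial.coeff_mul_X_pow', if_pos (Nat.le_add_right _ _),
      Nat.add_sub_cancel_left, Polynomial.coeff_mul_C]
  · intro j _ hj
    rw [← mul_assoc, Polynomial.coeff_mul_X_pow']
    split_ifs with hle
    · rw [Polynomial.coeff_mul_C, Polynomial.coeff_eq_zero_of_natDegree_lt, zero_mul]
      refine lt_of_lt_of_le (natDegree_prod_lt p a N) ?_
      have hjd : j < d := by
        rcases Nat.lt_or_ge j d with h | h
        · exact h
        · exfalso
          have h1 : (d + 1) * p ^ N ≤ j * p ^ N := Nat.mul_le_mul_right _ (by omega)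
          rw [add_mul, one_mul] at h1
          omega
      have h1 : (j + 1) * p ^ N ≤ d * p ^ N := Nat.mul_le_mul_right _ hjd
      rw [add_mul, one_mul] at h1
      omega
    · rfl
  · intro h; exact absurd (Finset.mem_range.mpr hd) h

theorem coeff_eq_prod (f : ℕ → A) (hf0 : f 0 = 1) (N : ℕ)
    (hrel : ∀ i j, i < p ^ N → j < p ^ N → f i * f j = ((i + j).choose i : A) * f (i + j)) :
    (∀ k, k < N → f (p ^ k) ^ p = 0) ∧
      ∀ m, m < p ^ N → f m = (∏ n ∈ Finset.range N, expp p (f (p ^ n)) n).coeff m := by
  have hp : p.Prime := Fact.out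
  have hpow : ∀ k, k < N → ∀ d, d < p →
      f (d * p ^ k) = Ring.inverse (d.factorial : A) * f (p ^ k) ^ d ∧
        ((d + 1).choose 1 : A) * f ((d + 1) * p ^ k) =
          Ring.inverse (d.factorial : A) * f (p ^ k) ^ (d + 1) := by
    intro k hk d
    induction d with
    | zero => intro _; simp [hf0]
    | succ d ih =>
      intro hd
      obtain ⟨-, h2⟩ := ih (by omega)
      have h1 : f ((d + 1) * p ^ k) = Ring.inverse ((d + 1).factorial : A) * f (p ^ k) ^ (d + 1) := by
        refine (isUnit_factorial (A := A) p hd).mul_left_cancel ?_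
        rw [← mul_assoc, Ring.mul_inverse_cancel _ (isUnit_factorial p hd), one_mul]
        rw [Nat.choose_one_right] at h2
        rw [Nat.factorial_succ, Nat.cast_mul, mul_comm ((d + 1 : ℕ) : A), mul_assoc, h2, ← mul_assoc,
          Ring.mul_inverse_cancel _ (isUnit_factorial p (by omega)), one_mul]
      refine ⟨h1, ?_⟩
      have hlt : (d + 1) * p ^ k < p ^ N := by
        calc (d + 1) * p ^ k < p * p ^ k := Nat.mul_lt_mul_of_pos_right hd (pow_pos hp.pos k)
          _ = p ^ (k + 1) := by rw [pow_succ, mul_comm]
          _ ≤ p ^ N := Nat.pow_le_pow_right hp.pos hk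
      have hk1 : p ^ k < p ^ N := Nat.pow_lt_pow_right hp.one_lt hk
      have h3 := hrel (p ^ k) ((d + 1) * p ^ k) hk1 hlt
      rw [show p ^ k + (d + 1) * p ^ k = (d + 1 + 1) * p ^ k by ring, h1] at h3
      have hch : (((d + 1 + 1) * p ^ k).choose (p ^ k) : A) = ((d + 1 + 1).choose 1 : A) := by
        rw [CharP.natCast_eq_natCast A p]
        clear h3 h1 h2 hlt hk1 ih
        induction k with
        | zero => simp [Nat.ModEq]
        | succ k ihk =>
          have hL := Choose.choose_modEq_choose_mod_mul_choose_div_nat (p := p)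
            (n := (d + 1 + 1) * p ^ (k + 1)) (k := p ^ (k + 1))
          rw [Nat.mod_eq_zero_of_dvd (dvd_mul_of_dvd_right (dvd_pow_self p k.succ_ne_zero) _),
            Nat.mod_eq_zero_of_dvd (dvd_pow_self p k.succ_ne_zero), Nat.choose_self, one_mul,
            pow_succ, ← mul_assoc, Nat.mul_div_cancel _ hp.pos, Nat.mul_div_cancel _ hp.pos] at hL
          rw [pow_succ, ← mul_assoc]
          exact hL.trans (ihk (by omega))
      rw [← hch, ← h3, pow_succ (f (p ^ k)) (d + 1)]
      ring
  constructor
  · intro k hk
    obtain ⟨-, h2⟩ := hpow k hk (p - 1) (by have := hp.pos; omega)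
    rw [Nat.sub_add_cancel hp.one_le, Nat.choose_one_right, CharP.cast_eq_zero, zero_mul] at h2
    have := congrArg (fun x => ((p - 1).factorial : A) * x) h2
    simp only [mul_zero, ← mul_assoc] at this
    rw [Ring.mul_inverse_cancel _ (isUnit_factorial p (by have := hp.pos; omega)), one_mul] at this
    exact this.symm
  · intro m hm
    induction N generalizing m with
    | zero =>
      obtain rfl : m = 0 := by simpa using hm
      simp [hf0]
    | succ N ih =>
      have hlt' : p ^ N ≤ p ^ (N + 1) := Nat.pow_le_pow_right hp.pos (Nat.le_succ N)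
      have hdp : m / p ^ N < p := Nat.div_lt_of_lt_mul (by rwa [← pow_succ])
      have hr : m % p ^ N < p ^ N := Nat.mod_lt _ (pow_pos hp.pos N)
      have hm' : m = m / p ^ N * p ^ N + m % p ^ N := (Nat.div_add_mod' m (p ^ N)).symm
      set d := m / p ^ N
      set r := m % p ^ N
      have hdlt : d * p ^ N < p ^ (N + 1) := lt_of_le_of_lt (Nat.div_mul_le_self m _) hm
      have h3 := hrel r (d * p ^ N) (by omega) hdlt
      have hch : (((r + d * p ^ N).choose r : ℕ) : A) = 1 := by
        rw [← Nat.cast_one, CharP.natCast_eq_natCast A p]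
        have key : ∀ (N d r : ℕ), r < p ^ N → (r + d * p ^ N).choose r ≡ 1 [MOD p] := by
          intro N
          induction N with
          | zero => intro d r hr; simp at hr; subst hr; simp [Nat.ModEq]
          | succ N ihN =>
            intro d r hr
            have hL := Choose.choose_modEq_choose_mod_mul_choose_div_nat (p := p)
              (n := r + d * p ^ (N + 1)) (k := r)
            rw [pow_succ, ← mul_assoc, Nat.add_mul_mod_self_right, Nat.choose_self, one_mul,
              Nat.add_mul_div_right _ _ hp.pos] at hL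
            rw [pow_succ, ← mul_assoc]
            exact hL.trans (ihN d (r / p)
              (Nat.div_lt_of_lt_mul (by rw [pow_succ, mul_comm] at hr; exact hr)))
        exact key N d r hr
      rw [hch, one_mul] at h3
      rw [hm', coeff_prod_succ p _ N d r hr hdp, ← (hpow N (Nat.lt_succ_self N) d hdp).1,
        ← ih (fun i j hi hj => hrel i j (by omega) (by omega))
          (fun k hk => hpow k (by omega)) r hr, h3, add_comm]

end CharP

end Groth.Agent.GaDual.Chars
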