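import Mathlib

/-!
Symmetric additive two-cocycles in characteristic `p` (Lazard's lemma), relative to ideals.
-/

set_option autoImplicit false

open MvPolynomial

namespace Groth.Agent.GaDual.Lazard

noncomputable abbrev e2 (a b : ℕ) : Fin 2 →₀ ℕ := Finsupp.equivFunOnFinite.symm ![a, b]
noncomputable abbrev e3 (a b c : ℕ) : Fin 3 →₀ ℕ := Finsupp.equivFunOnFinite.symm ![a, b, c]

theorem eq_e2 (d : Fin 2 →₀ ℕ) : d = e2 (d 0) (d 1) := by
  ext i; fin_cases i <;> simp

variable {R : Type*} [CommRing R]

/-- The additive coboundary of a one-variable polynomial. -/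
noncomputable def dAdd (G : Polynomial R) : MvPolynomial (Fin 2) R :=
  Polynomial.aeval (X 0 + X 1) G - Polynomial.aeval (X 0) G - Polynomial.aeval (X 1) G

/-- The cocycle defect. -/
noncomputable def coc (F : MvPolynomial (Fin 2) R) : MvPolynomial (Fin 3) R :=
  aeval ![X 0, X 1 + X 2] F + aeval ![X 1, X 2] F - aeval ![X 0 + X 1, X 2] F - aeval ![X 0, X 1] F

/-- `((X+Y)^p - X^p - Y^p)/p`. -/
noncomputable def S (p : ℕ) : MvPolynomial (Fin 2) R :=
  ∑ j ∈ Finset.Ioo 0 p, C ((p.choose j / p : ℕ) : R) * X 0 ^ j * X 1 ^ (p - j)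

/-- `S` in the `p ^ i`-th powers of the variables. -/
noncomputable def Spow (p i : ℕ) : MvPolynomial (Fin 2) R :=
  aeval ![X 0 ^ p ^ i, X 1 ^ p ^ i] (S p : MvPolynomial (Fin 2) R)

theorem coeff_aeval_split_right (F : MvPolynomial (Fin 2) R) (i j l : ℕ) :
    coeff (e3 i j l) (aeval ![(X 0 : MvPolynomial (Fin 3) R), X 1 + X 2] F) =
      ((j + l).choose j : R) * coeff (e2 i (j + l)) F := by
  induction F using MvPolynomial.induction_on' with
  | add p q hp hq => rw [map_add, coeff_add, coeff_add, hp, hq, mul_add]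
  | monomial d r =>
    rw [eq_e2 d, aeval_monomial, Finsupp.prod_fintype _ _ (fun _ => pow_zero _)]
    simp only [Fin.prod_univ_two, Finsupp.coe_equivFunOnFinite_symm, Matrix.cons_val_zero,
      Matrix.cons_val_one, add_pow, Finset.mul_sum, coeff_sum, algebraMap_eq, coeff_monomial]
    have hterm : ∀ m, C r * (X 0 ^ d 0 * (X 1 ^ m * X 2 ^ (d 1 - m) * ((d 1).choose m : MvPolynomial (Fin 3) R)))
        = monomial (e3 (d 0) m (d 1 - m)) (r * ((d 1).choose m : R)) := fun m => by
      rw [monomial_eq, Finsupp.prod_fintype _ _ (fun _ => pow_zero _), C_mul, map_natCast]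
      simp [Fin.prod_univ_three]
      ring
    simp only [hterm, coeff_monomial]
    by_cases h : d 0 = i ∧ d 1 = j + l
    · obtain ⟨h0, h1⟩ := h
      rw [if_pos (by rw [h0, h1]), Finset.sum_eq_single j]
      · rw [if_pos (by rw [h0, h1, Nat.add_sub_cancel_left]), h1, mul_comm]
      · intro m hm hmj
        rw [if_neg fun h => hmj ?_]
        simpa using DFunLike.congr_fun h 1
      · intro hj
        exact absurd (Finset.mem_range.mpr (by omega)) hj
    · rw [if_neg fun h' => h ⟨by simpa using DFunLike.congr_fun h' 0,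
          by simpa using DFunLike.congr_fun h' 1⟩, mul_zero]
      refine Finset.sum_eq_zero fun m hm => if_neg fun h' => h ?_
      have h0 := DFunLike.congr_fun h' 0
      have h1 := DFunLike.congr_fun h' 1
      have h2 := DFunLike.congr_fun h' 2
      simp at h0 h1 h2
      have := Finset.mem_range.mp hm
      exact ⟨h0, by omega⟩

theorem coeff_aeval_split_left (F : MvPolynomial (Fin 2) R) (i j l : ℕ) :
    coeff (e3 i j l) (aeval ![(X 0 + X 1 : MvPolynomial (Fin 3) R), X 2] F) =
      ((i + j).choose i : R) * coeff (e2 (i + j) l) F := by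
  induction F using MvPolynomial.induction_on' with
  | add p q hp hq => rw [map_add, coeff_add, coeff_add, hp, hq, mul_add]
  | monomial d r =>
    rw [eq_e2 d, aeval_monomial, Finsupp.prod_fintype _ _ (fun _ => pow_zero _)]
    simp only [Fin.prod_univ_two, Finsupp.coe_equivFunOnFinite_symm, Matrix.cons_val_zero,
      Matrix.cons_val_one, add_pow, Finset.sum_mul, Finset.mul_sum, coeff_sum, algebraMap_eq,
      coeff_monomial]
    have hterm : ∀ m, C r * (X 0 ^ m * X 1 ^ (d 0 - m) * ((d 0).choose m : MvPolynomial (Fin 3) R) * X 2 ^ d 1)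
        = monomial (e3 m (d 0 - m) (d 1)) (r * ((d 0).choose m : R)) := fun m => by
      rw [monomial_eq, Finsupp.prod_fintype _ _ (fun _ => pow_zero _), C_mul, map_natCast]
      simp [Fin.prod_univ_three]
      ring
    simp only [hterm, coeff_monomial]
    by_cases h : d 0 = i + j ∧ d 1 = l
    · obtain ⟨h0, h1⟩ := h
      rw [if_pos (by rw [h0, h1]), Finset.sum_eq_single i]
      · rw [if_pos (by rw [h0, h1, Nat.add_sub_cancel_left]), h0, mul_comm]
      · intro m hm hmj
        rw [if_neg fun h => hmj ?_]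
        simpa using DFunLike.congr_fun h 0
      · intro hj
        exact absurd (Finset.mem_range.mpr (by omega)) hj
    · rw [if_neg fun h' => h ⟨by simpa using DFunLike.congr_fun h' 0,
          by simpa using DFunLike.congr_fun h' 1⟩, mul_zero]
      refine Finset.sum_eq_zero fun m hm => if_neg fun h' => h ?_
      have h0 := DFunLike.congr_fun h' 0
      have h1 := DFunLike.congr_fun h' 1
      have h2 := DFunLike.congr_fun h' 2
      simp at h0 h1 h2
      have := Finset.mem_range.mp hm
      exact ⟨by omega, h2⟩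

theorem coeff_aeval_yz (F : MvPolynomial (Fin 2) R) (i j l : ℕ) :
    coeff (e3 i j l) (aeval ![(X 1 : MvPolynomial (Fin 3) R), X 2] F) =
      if i = 0 then coeff (e2 j l) F else 0 := by
  induction F using MvPolynomial.induction_on' with
  | add p q hp hq => rw [map_add, coeff_add, coeff_add, hp, hq]; split_ifs <;> simp
  | monomial d r =>
    rw [eq_e2 d, aeval_monomial, Finsupp.prod_fintype _ _ (fun _ => pow_zero _)]
    simp only [Fin.prod_univ_two, Finsupp.coe_equivFunOnFinite_symm, Matrix.cons_val_zero,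
      Matrix.cons_val_one, algebraMap_eq]
    rw [show C r * (X 1 ^ d 0 * X 2 ^ d 1) = monomial (e3 0 (d 0) (d 1)) r from by
      rw [monomial_eq, Finsupp.prod_fintype _ _ (fun _ => pow_zero _)]
      simp [Fin.prod_univ_three]]
    rw [coeff_monomial]
    by_cases hi : i = 0
    · subst hi
      rw [if_pos rfl, coeff_monomial]
      refine if_congr ?_ rfl rfl
      simp [DFunLike.ext_iff, Fin.forall_fin_succ]
    · rw [if_neg hi, if_neg]
      intro h; exact hi (by simpa using (DFunLike.congr_fun h 0).symm)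

theorem coeff_aeval_xy (F : MvPolynomial (Fin 2) R) (i j l : ℕ) :
    coeff (e3 i j l) (aeval ![(X 0 : MvPolynomial (Fin 3) R), X 1] F) =
      if l = 0 then coeff (e2 i j) F else 0 := by
  induction F using MvPolynomial.induction_on' with
  | add p q hp hq => rw [map_add, coeff_add, coeff_add, hp, hq]; split_ifs <;> simp
  | monomial d r =>
    rw [eq_e2 d, aeval_monomial, Finsupp.prod_fintype _ _ (fun _ => pow_zero _)]
    simp only [Fin.prod_univ_two, Finsupp.coe_equivFunOnFinite_symm, Matrix.cons_val_zero,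
      Matrix.cons_val_one, algebraMap_eq]
    rw [show C r * (X 0 ^ d 0 * X 1 ^ d 1) = monomial (e3 (d 0) (d 1) 0) r from by
      rw [monomial_eq, Finsupp.prod_fintype _ _ (fun _ => pow_zero _)]
      simp [Fin.prod_univ_three]]
    rw [coeff_monomial]
    by_cases hl : l = 0
    · subst hl
      rw [if_pos rfl, coeff_monomial]
      refine if_congr ?_ rfl rfl
      simp [DFunLike.ext_iff, Fin.forall_fin_succ]
    · rw [if_neg hl, if_neg]
      intro h; exact hl (by simpa using (DFunLike.congr_fun h 2).symm)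

theorem coeff_coc (F : MvPolynomial (Fin 2) R) (i j l : ℕ) :
    coeff (e3 i j l) (coc F) = ((j + l).choose j : R) * coeff (e2 i (j + l)) F +
      (if i = 0 then coeff (e2 j l) F else 0) - ((i + j).choose i : R) * coeff (e2 (i + j) l) F -
      (if l = 0 then coeff (e2 i j) F else 0) := by
  rw [coc, coeff_sub, coeff_sub, coeff_add, coeff_aeval_split_right, coeff_aeval_yz,
    coeff_aeval_split_left, coeff_aeval_xy]

theorem coeff_swap (F : MvPolynomial (Fin 2) R) (a b : ℕ) :
    coeff (e2 a b) (aeval ![(X 1 : MvPolynomial (Fin 2) R), X 0] F) = coeff (e2 b a) F := by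
  induction F using MvPolynomial.induction_on' with
  | add p q hp hq => rw [map_add, coeff_add, coeff_add, hp, hq]
  | monomial d r =>
    rw [eq_e2 d, aeval_monomial, Finsupp.prod_fintype _ _ (fun _ => pow_zero _)]
    simp only [Fin.prod_univ_two, Finsupp.coe_equivFunOnFinite_symm, Matrix.cons_val_zero,
      Matrix.cons_val_one, algebraMap_eq]
    rw [show C r * (X 1 ^ d 0 * X 0 ^ d 1) = monomial (e2 (d 1) (d 0)) r from by
      rw [monomial_eq, Finsupp.prod_fintype _ _ (fun _ => pow_zero _)]
      simp [Fin.prod_univ_two]; ring]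
    rw [coeff_monomial, coeff_monomial]
    refine if_congr ?_ rfl rfl
    simp [DFunLike.ext_iff, Fin.forall_fin_succ]
    omega

/-! ### arithmetic -/

theorem not_dvd_choose_pow {p : ℕ} [Fact p.Prime] :
    ∀ (t A B : ℕ), B < p ^ t → ¬ p ∣ A → ¬ p ∣ (p ^ t * A + B).choose (p ^ t)
  | 0, A, B, hB, hA => by
    obtain rfl : B = 0 := by simpa using hB
    simpa using hA
  | t + 1, A, B, hB, hA => by
    have hp : p.Prime := Fact.out
    have h := Choose.choose_modEq_choose_mod_mul_choose_div_nat (p := p)
      (n := p ^ (t + 1) * A + B) (k := p ^ (t + 1))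
    have hk0 : p ^ (t + 1) % p = 0 := Nat.mod_eq_zero_of_dvd (dvd_pow_self p (Nat.succ_ne_zero t))
    have hk1 : p ^ (t + 1) / p = p ^ t := by rw [pow_succ, Nat.mul_div_cancel _ hp.pos]
    have hn1 : (p ^ (t + 1) * A + B) / p = p ^ t * A + B / p := by
      rw [show p ^ (t + 1) * A + B = B + p * (p ^ t * A) by ring, Nat.add_mul_div_left _ _ hp.pos,
        add_comm]
    rw [hk0, hk1, hn1, Nat.choose_zero_right, one_mul] at h
    intro hd
    refine not_dvd_choose_pow t A (B / p) ?_ hA ?_
    · rw [Nat.div_lt_iff_lt_mul hp.pos, ← pow_succ]; exact hB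
    · exact Nat.modEq_zero_iff_dvd.mp (h.symm.trans (Nat.modEq_zero_iff_dvd.mpr hd))

variable (p : ℕ) [Fact p.Prime]

omit [CommRing R] in
theorem isUnit_natCast_of_not_dvd {R : Type*} [CommRing R] (hpR : (p : R) = 0) {m : ℕ}
    (h : ¬ p ∣ m) : IsUnit (m : R) := by
  have hco : Nat.Coprime p m := (Fact.out : p.Prime).coprime_iff_not_dvd.mpr h
  obtain ⟨u, v, huv⟩ := hco.isCoprime
  refine IsUnit.of_mul_eq_one_right (v : R) ?_
  have := congrArg (Int.cast : ℤ → R) huv
  simpa [hpR] using this

open Classical in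
/-- The distinguished exponent in degree `n`. -/
noncomputable def qexp (n : ℕ) : ℕ :=
  if ∃ k, n = p ^ k then n / p else p ^ padicValNat p n

/-- A symmetric cocycle in degree `n` vanishing at the distinguished exponent vanishes. -/
theorem core {R : Type*} [CommRing R] (hpR : (p : R) = 0) (J : Ideal R) (n : ℕ) (hn : 2 ≤ n)
    (c : ℕ → R) (hsymm : ∀ a b, 0 < a → 0 < b → a + b = n → c a - c b ∈ J)
    (hrel : ∀ i j l, 0 < i → 0 < j → 0 < l → i + j + l = n →
      ((j + l).choose j : R) * c i - ((i + j).choose i : R) * c (i + j) ∈ J)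
    (hq : c (qexp p n) ∈ J) (a : ℕ) (ha0 : 0 < a) (han : a < n) : c a ∈ J := by
  have hp : p.Prime := Fact.out
  have hdiv : ∀ {m : ℕ} {x : R}, ¬ p ∣ m → (m : R) * x ∈ J → x ∈ J := fun hm hx =>
    (Ideal.unit_mul_mem_iff_mem J (isUnit_natCast_of_not_dvd p hpR hm)).mp hx
  have hpair : ∀ s t A B, p ^ s + p ^ t ≤ n → n - p ^ s = p ^ t * A + B → B < p ^ t → ¬ p ∣ A →
      c (p ^ t) ∈ J → c (p ^ s) ∈ J := by
    intro s t A B hle hdec hB hA ht
    have hs0 : 0 < p ^ s := pow_pos hp.pos s
    have ht0 : 0 < p ^ t := pow_pos hp.pos t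
    rcases eq_or_lt_of_le hle with heq | hlt
    · have := hsymm (p ^ s) (p ^ t) hs0 ht0 heq
      simpa using J.add_mem this ht
    · have h := hrel (p ^ s) (n - p ^ s - p ^ t) (p ^ t) hs0 (by omega) ht0 (by omega)
      rw [show n - p ^ s - p ^ t + p ^ t = n - p ^ s by omega,
        show p ^ s + (n - p ^ s - p ^ t) = n - p ^ t by omega,
        Nat.choose_symm_of_eq_add (show n - p ^ s = (n - p ^ s - p ^ t) + p ^ t by omega)] at h
      have hc : c (n - p ^ t) ∈ J := by
        simpa using J.add_mem (hsymm (n - p ^ t) (p ^ t) (by omega) ht0 (by omega)) ht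
      have h2 := J.add_mem h (J.mul_mem_left ((n - p ^ t).choose (p ^ s) : R) hc)
      rw [sub_add_cancel, hdec] at h2
      exact hdiv (not_dvd_choose_pow t A B hB hA) h2
  have hpow : ∀ s, p ^ s < n → c (p ^ s) ∈ J := by
    by_cases hpp : ∃ k, n = p ^ k
    · obtain ⟨k, rfl⟩ := hpp
      have hk : k ≠ 0 := by rintro rfl; simp at hn
      obtain ⟨k, rfl⟩ : ∃ k', k = k' + 1 := ⟨k - 1, by omega⟩
      have hqk : qexp p (p ^ (k + 1)) = p ^ k := by
        rw [qexp, if_pos ⟨_, rfl⟩, pow_succ, Nat.mul_div_cancel _ hp.pos]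
      rw [hqk] at hq
      intro s hs
      have hsk : s ≤ k := Nat.lt_succ_iff.mp ((Nat.pow_lt_pow_iff_right hp.one_lt).mp hs)
      rcases eq_or_lt_of_le hsk with rfl | hlt
      · exact hq
      · have h1 : p ^ s < p ^ k := Nat.pow_lt_pow_right hp.one_lt hlt
        have h2 : p ^ (k + 1) = p ^ k * (p - 1) + p ^ k := by
          have : p ^ k * (p - 1) + p ^ k = p ^ k * ((p - 1) + 1) := by ring
          rw [Nat.sub_add_cancel hp.one_le, ← pow_succ] at this
          exact this.symm
        refine hpair s k (p - 1) (p ^ k - p ^ s) ?_ ?_ ?_ ?_ hq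
        · rw [pow_succ]
          have : p ^ k * 2 ≤ p ^ k * p := Nat.mul_le_mul_left _ hp.two_le
          omega
        · omega
        · have := pow_pos hp.pos s; omega
        · exact Nat.not_dvd_of_pos_of_lt (by have := hp.two_le; omega) (by have := hp.two_le; omega)
    · set t₀ := padicValNat p n with ht₀
      obtain ⟨u, hu⟩ : p ^ t₀ ∣ n := pow_padicValNat_dvd
      have hpu : ¬ p ∣ u := by
        rintro ⟨w, rfl⟩
        refine pow_succ_padicValNat_not_dvd (p := p) (show n ≠ 0 by omega) ⟨w, ?_⟩
        rw [← ht₀, pow_succ, mul_assoc]; exact hu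
      have hu2 : 2 ≤ u := by
        rcases u with _ | _ | u
        · simp at hu; omega
        · exact absurd ⟨t₀, by simpa using hu⟩ hpp
        · omega
      have hqq : qexp p n = p ^ t₀ := by rw [qexp, if_neg hpp]
      rw [hqq] at hq
      have hbig : ∀ s, t₀ ≤ s → p ^ s < n → c (p ^ s) ∈ J := by
        intro s hts hs
        rcases eq_or_lt_of_le hts with rfl | hlt
        · exact hq
        · obtain ⟨e, rfl⟩ : ∃ e, s = t₀ + (e + 1) := ⟨s - t₀ - 1, by omega⟩
          rw [pow_add, hu] at hs
          have hlt' : p ^ (e + 1) < u := Nat.lt_of_mul_lt_mul_left hs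
          refine hpair _ t₀ (u - p ^ (e + 1)) 0 ?_ ?_ (pow_pos hp.pos _) ?_ hq
          · rw [pow_add, hu]
            calc p ^ t₀ * p ^ (e + 1) + p ^ t₀ = p ^ t₀ * (p ^ (e + 1) + 1) := by ring
              _ ≤ p ^ t₀ * u := Nat.mul_le_mul_left _ hlt'
          · rw [pow_add, hu, Nat.mul_sub, add_zero]
          · intro hd
            apply hpu
            have := Nat.dvd_add hd (dvd_pow_self p (Nat.succ_ne_zero e))
            rwa [Nat.sub_add_cancel hlt'.le] at this
      intro s hs
      rcases le_or_gt t₀ s with hts | hts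
      · exact hbig s hts hs
      have h1 : p ^ s < p ^ t₀ := Nat.pow_lt_pow_right hp.one_lt hts
      have h1' : 0 < p ^ s := pow_pos hp.pos s
      have hn' : n = p ^ t₀ * (u - 1) + p ^ t₀ := by
        rw [hu]
        conv_lhs => rw [show u = (u - 1) + 1 by omega]
        ring
      by_cases hd : p ∣ u - 1
      · -- use the top nonzero digit of u - 1
        set e := padicValNat p (u - 1) with he
        obtain ⟨w, hw⟩ : p ^ e ∣ u - 1 := pow_padicValNat_dvd
        have hpw : ¬ p ∣ w := by
          rintro ⟨w', rfl⟩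
          refine pow_succ_padicValNat_not_dvd (p := p) (show u - 1 ≠ 0 by omega) ⟨w', ?_⟩
          rw [← he, pow_succ, mul_assoc]; exact hw
        have hw1 : 1 ≤ w := by rcases w with _ | w; · exact absurd (dvd_zero p) hpw
                               omega
        have hn'' : n = p ^ (t₀ + e) * w + p ^ t₀ := by
          rw [hn', hw, pow_add, mul_assoc]
        have hle : p ^ (t₀ + e) ≤ p ^ (t₀ + e) * w := Nat.le_mul_of_pos_right _ hw1
        refine hpair s (t₀ + e) w (p ^ t₀ - p ^ s) ?_ ?_ ?_ hpw (hbig _ (by omega) ?_)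
        · omega
        · omega
        · have : p ^ t₀ ≤ p ^ (t₀ + e) := Nat.pow_le_pow_right hp.pos (by omega)
          omega
        · omega
      · refine hpair s t₀ (u - 1) (p ^ t₀ - p ^ s) ?_ ?_ ?_ hd hq
        · have : p ^ t₀ ≤ p ^ t₀ * (u - 1) := Nat.le_mul_of_pos_right _ (by omega)
          omega
        · omega
        · omega
  by_cases hap : ∃ s, a = p ^ s
  · obtain ⟨s, rfl⟩ := hap
    exact hpow s han
  · set s := padicValNat p a
    obtain ⟨u, hu⟩ : p ^ s ∣ a := pow_padicValNat_dvd
    have hpu : ¬ p ∣ u := by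
      rintro ⟨w, rfl⟩
      refine pow_succ_padicValNat_not_dvd (p := p) (show a ≠ 0 by omega) ⟨w, ?_⟩
      rw [pow_succ, mul_assoc]; exact hu
    have hlt : p ^ s < a := lt_of_le_of_ne (Nat.le_of_dvd ha0 ⟨u, hu⟩) (fun h => hap ⟨s, h.symm⟩)
    have h := hrel (p ^ s) (a - p ^ s) (n - a) (pow_pos hp.pos s) (by omega) (by omega) (by omega)
    rw [show p ^ s + (a - p ^ s) = a by omega] at h
    have h2 := J.sub_mem (J.mul_mem_left (((a - p ^ s + (n - a)).choose (a - p ^ s) : R))
      (hpow s (by omega))) h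
    rw [sub_sub_cancel] at h2
    have hnd : ¬ p ∣ a.choose (p ^ s) := by
      rw [hu]; simpa using not_dvd_choose_pow s u 0 (pow_pos hp.pos s) hpu
    exact hdiv hnd h2

/-! ### coboundaries and `S` -/

omit [Fact p.Prime] in
theorem coc_sub (F G : MvPolynomial (Fin 2) R) : coc (F - G) = coc F - coc G := by
  simp only [coc, map_sub]; ring

omit [Fact p.Prime] in
theorem coc_add (F G : MvPolynomial (Fin 2) R) : coc (F + G) = coc F + coc G := by
  simp only [coc, map_add]; ring

omit [Fact p.Prime] in
theorem coc_C_mul (r : R) (F : MvPolynomial (Fin 2) R) : coc (C r * F) = C r * coc F := by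
  simp only [coc, map_mul, aeval_C, algebraMap_eq]; ring

omit [Fact p.Prime] in
theorem coc_sum {ι : Type*} (s : Finset ι) (F : ι → MvPolynomial (Fin 2) R) :
    coc (∑ i ∈ s, F i) = ∑ i ∈ s, coc (F i) := by
  simp only [coc, map_sum, Finset.sum_add_distrib, Finset.sum_sub_distrib]

omit [Fact p.Prime] in
theorem coc_dAdd (G : Polynomial R) : coc (dAdd G) = 0 := by
  simp only [coc, dAdd, map_sub, ← Polynomial.aeval_algHom_apply, map_add, aeval_X,
    Matrix.cons_val_zero, Matrix.cons_val_one, add_assoc]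
  ring

omit [Fact p.Prime] in
theorem swap_dAdd (G : Polynomial R) : aeval ![(X 1 : MvPolynomial (Fin 2) R), X 0] (dAdd G) = dAdd G := by
  simp only [dAdd, map_sub, ← Polynomial.aeval_algHom_apply, map_add, aeval_X,
    Matrix.cons_val_zero, Matrix.cons_val_one]
  rw [add_comm (X 1)]
  ring

omit [Fact p.Prime] in
theorem map_S {R' : Type*} [CommRing R'] (φ : R →+* R') :
    MvPolynomial.map φ (S p : MvPolynomial (Fin 2) R) = S p := by
  simp [S, map_sum]

theorem natCast_mul_S : (p : MvPolynomial (Fin 2) ℤ) * S p = dAdd (Polynomial.X ^ p) := by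
  have hp : p.Prime := Fact.out
  simp only [dAdd, map_pow, Polynomial.aeval_X, S, Finset.mul_sum]
  rw [add_pow, Finset.sum_range_succ, Finset.range_eq_Ico, Finset.sum_eq_sum_Ico_succ_bot hp.pos]
  simp only [Nat.choose_self, Nat.choose_zero_right, Nat.sub_self, pow_zero, Nat.sub_zero,
    one_mul, mul_one, Nat.cast_one]
  rw [show Finset.Ico (0 + 1) p = Finset.Ioo 0 p from by
    ext a; simp only [Finset.mem_Ico, Finset.mem_Ioo]; omega]
  rw [show ∀ a b c : MvPolynomial (Fin 2) ℤ, a + b + c - c - a = b from fun a b c => by ring]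
  refine Finset.sum_congr rfl fun j hj => ?_
  rw [Finset.mem_Ioo] at hj
  have hd : p ∣ p.choose j := hp.dvd_choose_self (by omega) hj.2
  rw [map_natCast]
  conv_rhs => rw [show (p.choose j : MvPolynomial (Fin 2) ℤ) = ((p * (p.choose j / p) : ℕ) : MvPolynomial (Fin 2) ℤ) from by
    rw [Nat.mul_div_cancel' hd]]
  push_cast
  ring

theorem coc_S : coc (S p : MvPolynomial (Fin 2) R) = 0 := by
  have hp : p.Prime := Fact.out
  have h : coc (S p : MvPolynomial (Fin 2) ℤ) = 0 := by
    have := congrArg coc (natCast_mul_S p)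
    rw [coc_dAdd, ← map_natCast (C : ℤ →+* MvPolynomial (Fin 2) ℤ), coc_C_mul] at this
    exact (mul_eq_zero.mp this).resolve_left
      (by simp [hp.ne_zero])
  have key : ∀ (v : Fin 2 → MvPolynomial (Fin 3) ℤ) (F : MvPolynomial (Fin 2) ℤ),
      MvPolynomial.map (Int.castRingHom R) (aeval v F) =
        aeval (fun i => MvPolynomial.map (Int.castRingHom R) (v i))
          (MvPolynomial.map (Int.castRingHom R) F) := by
    intro v F
    induction F using MvPolynomial.induction_on with
    | C r => simp
    | add a b ha hb => simp only [map_add, ha, hb]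
    | mul_X a i ha => simp only [map_mul, ha, map_X, aeval_X]
  have h2 := congrArg (MvPolynomial.map (Int.castRingHom R)) h
  simp only [coc, map_add, map_sub, map_zero, key, map_S] at h2
  simp only [coc]
  have hv : ∀ a b : MvPolynomial (Fin 3) ℤ,
      (fun i => MvPolynomial.map (Int.castRingHom R) (![a, b] i)) =
        ![MvPolynomial.map (Int.castRingHom R) a, MvPolynomial.map (Int.castRingHom R) b] := by
    intro a b; funext i; fin_cases i <;> simp
  simp only [hv, map_add, map_X] at h2
  exact h2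

theorem swap_S : aeval ![(X 1 : MvPolynomial (Fin 2) R), X 0] (S p : MvPolynomial (Fin 2) R) = S p := by
  simp only [S, map_sum, map_mul, map_pow, aeval_C, aeval_X, Matrix.cons_val_zero,
    Matrix.cons_val_one, algebraMap_eq]
  refine Finset.sum_nbij' (fun j => p - j) (fun j => p - j) ?_ ?_ ?_ ?_ ?_
  all_goals intro j hj
  all_goals simp only [Finset.mem_Ioo, Finset.mem_coe] at hj ⊢
  all_goals try omega
  rw [Nat.choose_symm (by omega), show p - (p - j) = j by omega]
  ring

theorem coc_Spow (hpR : (p : R) = 0) (i : ℕ) : coc (Spow p i : MvPolynomial (Fin 2) R) = 0 := by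
  rcases subsingleton_or_nontrivial R with hR | hR
  · exact Subsingleton.elim _ _
  haveI : CharP R p := (CharP.charP_iff_prime_eq_zero Fact.out).mpr hpR
  let φ : MvPolynomial (Fin 3) R →ₐ[R] MvPolynomial (Fin 3) R := aeval fun j => X j ^ p ^ i
  have key : ∀ (a b : MvPolynomial (Fin 3) R) (F : MvPolynomial (Fin 2) R),
      aeval ![a, b] (aeval ![(X 0 : MvPolynomial (Fin 2) R) ^ p ^ i, X 1 ^ p ^ i] F) =
        aeval ![a ^ p ^ i, b ^ p ^ i] F := by
    intro a b F
    rw [comp_aeval_apply]
    congr 2
    funext j; fin_cases j <;> simp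
  have key2 : ∀ (a b : MvPolynomial (Fin 3) R) (F : MvPolynomial (Fin 2) R),
      φ (aeval ![a, b] F) = aeval ![φ a, φ b] F := by
    intro a b F
    rw [comp_aeval_apply]
    congr 2
    funext j; fin_cases j <;> simp
  have h := congrArg φ (coc_S (R := R) p)
  simp only [coc, map_add, map_sub, map_zero, key2] at h
  simp only [coc, Spow, key, add_pow_char_pow]
  simpa [φ] using h

theorem swap_Spow (i : ℕ) :
    aeval ![(X 1 : MvPolynomial (Fin 2) R), X 0] (Spow p i : MvPolynomial (Fin 2) R) = Spow p i := by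
  have h := congrArg (aeval ![(X 0 : MvPolynomial (Fin 2) R) ^ p ^ i, X 1 ^ p ^ i]) (swap_S (R := R) p)
  rw [Spow]
  conv_rhs => rw [← h]
  rw [comp_aeval_apply, comp_aeval_apply]
  congr 2
  funext j; fin_cases j <;> simp

theorem coeff_Spow (i a b : ℕ) :
    coeff (e2 a b) (Spow p i : MvPolynomial (Fin 2) R) =
      ∑ j ∈ Finset.Ioo 0 p, if a = j * p ^ i ∧ b = (p - j) * p ^ i
        then ((p.choose j / p : ℕ) : R) else 0 := by
  simp only [Spow, S, map_sum, map_mul, map_pow, aeval_C, aeval_X, Matrix.cons_val_zero,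
    Matrix.cons_val_one, algebraMap_eq, coeff_sum]
  refine Finset.sum_congr rfl fun j _ => ?_
  rw [show C ((p.choose j / p : ℕ) : R) * (X 0 ^ p ^ i) ^ j * (X 1 ^ p ^ i) ^ (p - j) =
    monomial (e2 (j * p ^ i) ((p - j) * p ^ i)) ((p.choose j / p : ℕ) : R) from by
      rw [monomial_eq, Finsupp.prod_fintype _ _ (fun _ => pow_zero _)]
      simp [Fin.prod_univ_two, ← pow_mul]; ring, coeff_monomial]
  refine if_congr ?_ rfl rfl
  simp [DFunLike.ext_iff, Fin.forall_fin_succ, eq_comm]

omit [Fact p.Prime] in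
theorem coeff_dAdd (G : Polynomial R) (a b : ℕ) :
    coeff (e2 a b) (dAdd G) = ((a + b).choose a : R) * G.coeff (a + b)
      - (if b = 0 then G.coeff a else 0) - (if a = 0 then G.coeff b else 0) := by
  induction G using Polynomial.induction_on' with
  | add f g hf hg =>
    simp only [dAdd, map_add] at hf hg ⊢
    simp only [coeff_sub, coeff_add] at hf hg ⊢
    split_ifs at hf hg ⊢ <;> simp only [Polynomial.coeff_add, mul_add] <;> linear_combination hf + hg
  | monomial n r =>
    simp only [dAdd, Polynomial.aeval_monomial, algebraMap_eq, coeff_sub, coeff_C_mul]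
    rw [show coeff (e2 a b) ((X 0 + X 1 : MvPolynomial (Fin 2) R) ^ n) =
      if a + b = n then ((a + b).choose a : R) else 0 from ?_]
    · simp only [X_pow_eq_monomial, coeff_monomial, Polynomial.coeff_monomial]
      have e0 : Finsupp.single (0 : Fin 2) n = e2 n 0 := by ext i; fin_cases i <;> simp
      have e1 : Finsupp.single (1 : Fin 2) n = e2 0 n := by ext i; fin_cases i <;> simp
      rw [e0, e1]
      simp [DFunLike.ext_iff, Fin.forall_fin_succ]
      split_ifs <;> first | ring1 | omega
    · rw [add_pow, coeff_sum]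
      have : ∀ m, X 0 ^ m * X 1 ^ (n - m) * (n.choose m : MvPolynomial (Fin 2) R) =
          monomial (e2 m (n - m)) (n.choose m : R) := fun m => by
        rw [monomial_eq, Finsupp.prod_fintype _ _ (fun _ => pow_zero _), map_natCast]
        simp [Fin.prod_univ_two]; ring
      simp only [this, coeff_monomial]
      split_ifs with h
      · subst h
        rw [Finset.sum_eq_single a]
        · rw [if_pos (by rw [Nat.add_sub_cancel_left])]
        · intro m hm hma
          exact if_neg fun h => hma (by simpa using DFunLike.congr_fun h 0)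
        · intro h'; exact absurd (Finset.mem_range.mpr (by omega)) h'
      · refine Finset.sum_eq_zero fun m hm => if_neg fun h' => h ?_
        have h0 := DFunLike.congr_fun h' 0
        have h1 := DFunLike.congr_fun h' 1
        simp at h0 h1
        have := Finset.mem_range.mp hm
        omega

theorem qexp_spec (n : ℕ) (hn : 2 ≤ n) : 0 < qexp p n ∧ qexp p n < n ∧
    ((¬ ∃ k, n = p ^ k) → ¬ p ∣ n.choose (qexp p n)) := by
  have hp : p.Prime := Fact.out
  unfold qexp
  split_ifs with h
  · obtain ⟨k, rfl⟩ := h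
    have hk : k ≠ 0 := by rintro rfl; simp at hn
    exact ⟨Nat.div_pos (Nat.le_self_pow hk p) hp.pos, Nat.div_lt_self (by omega) hp.one_lt,
      fun h' => absurd ⟨k, rfl⟩ h'⟩
  · obtain ⟨u, hu⟩ : p ^ padicValNat p n ∣ n := pow_padicValNat_dvd
    have hpu : ¬ p ∣ u := by
      rintro ⟨w, rfl⟩
      refine pow_succ_padicValNat_not_dvd (p := p) (show n ≠ 0 by omega) ⟨w, ?_⟩
      rw [pow_succ, mul_assoc]; exact hu
    refine ⟨pow_pos hp.pos _, lt_of_le_of_ne (Nat.le_of_dvd (by omega) pow_padicValNat_dvd)
      (fun h' => h ⟨_, h'.symm⟩), fun _ => ?_⟩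
    have := not_dvd_choose_pow (p := p) (padicValNat p n) u 0 (pow_pos hp.pos _) hpu
    rwa [add_zero, ← hu] at this

/-- Lazard's lemma, relative to ideals `J` (congruences) and `I` (where coefficients live). -/
theorem lazard (hpR : (p : R) = 0) (I J : Ideal R) (F : MvPolynomial (Fin 2) R)
    (hI : ∀ d, coeff d F ∈ I)
    (hs : ∀ d, coeff d (aeval ![(X 1 : MvPolynomial (Fin 2) R), X 0] F - F) ∈ J)
    (hc : ∀ d, coeff d (coc F) ∈ J) :
    ∃ (G : Polynomial R) (N : ℕ) (r : ℕ → R), (∀ m, G.coeff m ∈ I) ∧ (∀ i, r i ∈ I) ∧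
      G.coeff 0 = - coeff 0 F ∧
      ∀ d, coeff d (F - (dAdd G + ∑ i ∈ Finset.range N, C (r i) * Spow p i)) ∈ J := by
  classical
  have hp : p.Prime := Fact.out
  set D := F.totalDegree + 1
  let r : ℕ → R := fun k => coeff (e2 (p ^ k) (p ^ (k + 1) - p ^ k)) F
  let g : ℕ → R := fun n =>
    if n = 0 then - coeff 0 F
    else if n = 1 ∨ ∃ k, n = p ^ k then 0
    else Ring.inverse (n.choose (qexp p n) : R) * coeff (e2 (qexp p n) (n - qexp p n)) F
  let G : Polynomial R := ∑ n ∈ Finset.range D, Polynomial.monomial n (g n)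
  have hG : ∀ m, G.coeff m = if m < D then g m else 0 := fun m => by
    simp [G, Polynomial.finsetSum_coeff, Polynomial.coeff_monomial]
  have hgI : ∀ n, g n ∈ I := fun n => by
    simp only [g]
    split_ifs
    · exact I.neg_mem (hI _)
    · exact I.zero_mem
    · exact I.mul_mem_left _ (hI _)
  refine ⟨G, D, r, fun m => ?_, fun i => hI _, ?_, ?_⟩
  · rw [hG]; split_ifs; exacts [hgI m, I.zero_mem]
  · rw [hG, if_pos (Nat.succ_pos _)]; simp [g]
  set F' := F - (dAdd G + ∑ i ∈ Finset.range D, C (r i) * Spow p i) with hF'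
  have hc' : ∀ d, coeff d (coc F') ∈ J := by
    intro d
    rw [hF', coc_sub, coc_add, coc_dAdd, coc_sum, Finset.sum_eq_zero, add_zero, sub_zero]
    · exact hc d
    · intro i _; rw [coc_C_mul, coc_Spow p hpR, mul_zero]
  have hs' : ∀ a b, coeff (e2 a b) F' - coeff (e2 b a) F' ∈ J := by
    intro a b
    rw [← coeff_swap F' a b]
    have := J.neg_mem (hs (e2 a b))
    convert this using 1
    rw [hF', map_sub, map_add, swap_dAdd, map_sum]
    simp only [map_mul, aeval_C, algebraMap_eq, swap_Spow, coeff_sub]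
    ring
  have hzero : coeff (e2 0 0) F' ∈ J := by
    have e00 : e2 0 0 = 0 := by ext i; fin_cases i <;> simp
    rw [hF', coeff_sub, coeff_add, coeff_dAdd, coeff_sum, Finset.sum_eq_zero, e00, hG,
      if_pos (Nat.succ_pos _)]
    · simp [g]
    · intro i _
      rw [coeff_C_mul, coeff_Spow, Finset.sum_eq_zero, mul_zero]
      intro j hj
      rw [Finset.mem_Ioo] at hj
      refine if_neg fun h => ?_
      have := Nat.mul_pos hj.1 (pow_pos hp.pos i)
      omega
  have hedge : ∀ a, 0 < a → coeff (e2 a 0) F' ∈ J := by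
    intro a ha
    have := J.neg_mem (hc' (e3 a 0 0))
    rw [coeff_coc, if_neg (Nat.pos_iff_ne_zero.mp ha), if_pos rfl] at this
    simpa using this
  have hqmem : ∀ n, 2 ≤ n → coeff (e2 (qexp p n) (n - qexp p n)) F' ∈ J := by
    intro n hn
    obtain ⟨hq0, hqn, hq⟩ := qexp_spec p n hn
    set q := qexp p n with hqdef
    have hdeg : ∀ a b : ℕ, D ≤ a + b → coeff (e2 a b) F = 0 := by
      intro a b hab
      refine coeff_eq_zero_of_totalDegree_lt ?_
      have : (e2 a b).degree = a + b := by simp [Finsupp.degree_eq_sum, Fin.sum_univ_two]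
      show _ < (e2 a b).degree
      rw [this]
      omega
    suffices coeff (e2 q (n - q)) F' = 0 by rw [this]; exact J.zero_mem
    rw [hF', coeff_sub, coeff_add, coeff_dAdd, coeff_sum, if_neg (by omega : ¬ n - q = 0),
      if_neg (by omega : ¬ q = 0), show q + (n - q) = n by omega, hG]
    simp only [coeff_C_mul, coeff_Spow, sub_zero]
    by_cases hpk : ∃ k, n = p ^ k
    · have hg0 : (if n < D then g n else 0) = 0 := by
        simp only [g, if_neg (by omega : ¬ n = 0), if_pos (Or.inr hpk : n = 1 ∨ _), ite_self]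
      rw [hg0, mul_zero, zero_add, sub_eq_zero]
      obtain ⟨k, hk⟩ := hpk
      rcases k with _ | k
      · simp at hk; omega
      have hqk : q = p ^ k := by
        rw [hqdef, qexp, if_pos ⟨_, hk⟩, hk, pow_succ, Nat.mul_div_cancel _ hp.pos]
      have hsplit : ∀ i j, j < p → j * p ^ i + (p - j) * p ^ i = p ^ (i + 1) := fun i j hj => by
        rw [← add_mul, Nat.add_sub_cancel' hj.le, pow_succ, mul_comm]
      have hval : ∀ i, (∑ j ∈ Finset.Ioo 0 p, if q = j * p ^ i ∧ n - q = (p - j) * p ^ i
          then ((p.choose j / p : ℕ) : R) else 0) = if i = k then 1 else 0 := by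
        intro i
        split_ifs with hik
        · subst hik
          rw [Finset.sum_eq_single 1]
          · rw [if_pos ⟨by rw [hqk, one_mul], by rw [hqk, hk, pow_succ, Nat.sub_mul, one_mul, mul_comm]⟩, Nat.choose_one_right, Nat.div_self hp.pos,
              Nat.cast_one]
          · intro j _ hj1
            refine if_neg fun h => hj1 ?_
            have := h.1
            rw [hqk] at this
            nlinarith [pow_pos hp.pos i]
          · intro h1
            exact absurd (Finset.mem_Ioo.mpr ⟨one_pos, hp.one_lt⟩) h1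
        · refine Finset.sum_eq_zero fun j hj => if_neg fun h => hik ?_
          rw [Finset.mem_Ioo] at hj
          have h2 : p ^ (i + 1) = p ^ (k + 1) := by
            rw [← hsplit i j hj.2, ← h.1, ← h.2, ← hk]; omega
          have := Nat.pow_right_injective hp.two_le h2
          omega
      simp only [hval, mul_ite, mul_one, mul_zero, Finset.sum_ite_eq', Finset.mem_range]
      split_ifs with hkD
      · simp only [r]; rw [hqk, hk]
      · refine hdeg _ _ ?_
        have : k < p ^ (k + 1) := (Nat.lt_pow_self hp.one_lt).trans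
          (Nat.pow_lt_pow_right hp.one_lt (Nat.lt_succ_self k))
        omega
    · rw [Finset.sum_eq_zero, add_zero, sub_eq_zero]
      · split_ifs with hnD
        · simp only [g, if_neg (by omega : ¬ n = 0)]
          rw [if_neg (not_or.mpr ⟨by omega, hpk⟩), ← mul_assoc,
            Ring.mul_inverse_cancel _ (isUnit_natCast_of_not_dvd p hpR (hq hpk)), one_mul]
        · rw [mul_zero]; exact hdeg _ _ (by omega)
      · intro i _
        rw [Finset.sum_eq_zero, mul_zero]
        intro j hj
        rw [Finset.mem_Ioo] at hj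
        refine if_neg fun h => hpk ⟨i + 1, ?_⟩
        rw [pow_succ, mul_comm, show p = j + (p - j) by omega, add_mul]
        rw [show j + (p - j) = p by omega, ← h.1, ← h.2]
        omega
  intro d
  rw [eq_e2 d]
  rcases Nat.eq_zero_or_pos (d 0) with h0 | h0 <;> rcases Nat.eq_zero_or_pos (d 1) with h1 | h1
  · rw [h0, h1]; exact hzero
  · rw [h0]
    simpa using J.add_mem (hs' 0 (d 1)) (hedge _ h1)
  · rw [h1]; exact hedge _ h0
  · have := core p hpR J (d 0 + d 1) (by omega) (fun a => coeff (e2 a (d 0 + d 1 - a)) F')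
      (fun a b _ _ hab => by
        show coeff (e2 a (d 0 + d 1 - a)) F' - coeff (e2 b (d 0 + d 1 - b)) F' ∈ J
        rw [show d 0 + d 1 - a = b by omega, show d 0 + d 1 - b = a by omega]
        exact hs' a b)
      (fun i j l hi hj hl hsum => by
        have := hc' (e3 i j l)
        rw [coeff_coc, if_neg (by omega : ¬ i = 0), if_neg (by omega : ¬ l = 0)] at this
        show _ * coeff (e2 i (d 0 + d 1 - i)) F' - _ * coeff (e2 (i + j) (d 0 + d 1 - (i + j))) F' ∈ J
        rw [show d 0 + d 1 - i = j + l by omega, show d 0 + d 1 - (i + j) = l by omega]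
        simpa using this)
      (hqmem _ (by omega)) (d 0) h0 (by omega)
    simpa using this

end Groth.Agent.GaDual.Lazard
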