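import Groth.Agent.GaDual.AH

/-!
Splitting of symmetric multiplicative cocycles of the additive group in characteristic `p`
over a ring with surjective Frobenius.
-/

set_option autoImplicit false

open MvPolynomial

namespace Groth.Agent.GaDual.Splitting

open Lazard

variable (p : ℕ) [Fact p.Prime] {R : Type*} [CommRing R] [CharP R p]

noncomputable abbrev fX (f : Polynomial R) : MvPolynomial (Fin 2) R := Polynomial.aeval (X 0) f
noncomputable abbrev fY (f : Polynomial R) : MvPolynomial (Fin 2) R := Polynomial.aeval (X 1) f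
noncomputable abbrev fS (f : Polynomial R) : MvPolynomial (Fin 2) R := Polynomial.aeval (X 0 + X 1) f

/-- `F(bT)` with coefficients in `R`. -/
noncomputable def fb (b : R) : Polynomial R :=
  Polynomial.aeval (Polynomial.C b * Polynomial.X)
    ((AH.F p (2 * p)).map (ZMod.castHom (dvd_refl p) R))

/-- evaluation of the universal ring -/
noncomputable def Ψ (b : R) :
    Polynomial (MvPolynomial (Fin 2) (ZMod p)) →+* MvPolynomial (Fin 2) R :=
  Polynomial.eval₂RingHom (MvPolynomial.map (ZMod.castHom (dvd_refl p) R)) (C b)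

theorem coeff_fb (b : R) (j : ℕ) :
    (fb p b).coeff j = ZMod.castHom (dvd_refl p) R ((AH.F p (2 * p)).coeff j) * b ^ j := by
  rw [fb, ← Polynomial.coeff_map]
  induction (AH.F p (2 * p)).map (ZMod.castHom (dvd_refl p) R) using Polynomial.induction_on' with
  | add f g hf hg => rw [map_add, Polynomial.coeff_add, hf, hg, Polynomial.coeff_add, add_mul]
  | monomial n r =>
    rw [Polynomial.aeval_monomial, mul_pow, ← Polynomial.C_pow, Polynomial.algebraMap_eq, ← mul_assoc,
      ← Polynomial.C_mul, Polynomial.coeff_C_mul_X_pow, Polynomial.coeff_monomial]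
    by_cases h : j = n
    · subst h; simp
    · rw [if_neg h, if_neg (Ne.symm h), zero_mul]

theorem isUnit_fb {b : R} (hb : IsNilpotent b) : IsUnit (fb p b) := by
  rw [Polynomial.isUnit_iff_coeff_isUnit_isNilpotent]
  refine ⟨by simp [coeff_fb, AH.F_coeff_zero], fun i hi => ?_⟩
  rw [coeff_fb]
  exact (Commute.all _ _).isNilpotent_mul_left (hb.pow_of_pos hi)

theorem Ψ_Fsub (b : R) (y : MvPolynomial (Fin 2) (ZMod p)) :
    Ψ p b (AH.Fsub p (2 * p) y) =
      Polynomial.aeval (MvPolynomial.map (ZMod.castHom (dvd_refl p) R) y) (fb p b) := by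
  rw [AH.Fsub, fb]
  induction AH.F p (2 * p) using Polynomial.induction_on' with
  | add f g hf hg => simp only [map_add, Polynomial.map_add, hf, hg]
  | monomial n r =>
    simp only [Polynomial.map_monomial, Polynomial.aeval_monomial, map_mul, map_pow,
      Polynomial.aeval_C, Polynomial.aeval_X, Ψ, Polynomial.coe_eval₂RingHom, Polynomial.eval₂_C,
      Polynomial.eval₂_X,
      IsScalarTower.algebraMap_apply (ZMod p) (MvPolynomial (Fin 2) (ZMod p)) (Polynomial (MvPolynomial (Fin 2) (ZMod p))),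
      Polynomial.algebraMap_eq, algebraMap_eq, map_C]
    ring

theorem Ψ_congr (b : R) (P : Polynomial (MvPolynomial (Fin 2) (ZMod p))) (h0 : P.coeff 0 = 1)
    (h : ∀ j, 0 < j → j < 2 * p → j ≠ p → P.coeff j = 0) :
    Ψ p b P - (1 + C (b ^ p) * MvPolynomial.map (ZMod.castHom (dvd_refl p) R) (P.coeff p)) ∈
      Ideal.span {C (b ^ (2 * p))} := by
  have hp : p.Prime := Fact.out
  let Q := P - (1 + Polynomial.C (P.coeff p) * Polynomial.X ^ p)
  have hQ : (Polynomial.X : Polynomial (MvPolynomial (Fin 2) (ZMod p))) ^ (2 * p) ∣ Q := by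
    rw [Polynomial.X_pow_dvd_iff]
    intro d hd
    simp only [Q, Polynomial.coeff_sub, Polynomial.coeff_add, Polynomial.coeff_C_mul_X_pow,
      Polynomial.coeff_one]
    rcases Nat.eq_zero_or_pos d with rfl | hd0
    · rw [h0, if_pos rfl, if_neg (by have := hp.pos; omega), add_zero, sub_self]
    · rw [if_neg (by omega : ¬ d = 0), zero_add]
      by_cases hdp : d = p
      · subst hdp; rw [if_pos rfl, sub_self]
      · rw [if_neg hdp, h d hd0 hd hdp, sub_zero]
  obtain ⟨w, hw⟩ := hQ
  refine Ideal.mem_span_singleton.mpr ⟨Ψ p b w, ?_⟩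
  have := congrArg (Ψ p b) hw
  simp only [Q, map_sub, map_add, map_one, map_mul, map_pow, Ψ, Polynomial.coe_eval₂RingHom,
    Polynomial.eval₂_C, Polynomial.eval₂_X] at this ⊢
  rw [← this]
  ring

theorem fb_congr (b : R) :
    fS (fb p b) - fX (fb p b) * fY (fb p b) * (1 + C (b ^ p) * Lazard.S p) ∈
      Ideal.span {(C (b ^ (2 * p)) : MvPolynomial (Fin 2) R)} := by
  have hp : p.Prime := Fact.out
  have hN : p ≤ 2 * p := by omega
  set J := Ideal.span {(C (b ^ (2 * p)) : MvPolynomial (Fin 2) R)}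
  let π := Ideal.Quotient.mk J
  let k2 := MvPolynomial (Fin 2) (ZMod p)
  have key : ∀ (P : Polynomial k2), P.coeff 0 = 1 →
      (∀ j, 0 < j → j < 2 * p → j ≠ p → P.coeff j = 0) →
      π (Ψ p b P) = 1 + π (C (b ^ p)) * π (MvPolynomial.map (ZMod.castHom (dvd_refl p) R) (P.coeff p)) := by
    intro P h0 h
    rw [← map_mul, ← map_one π, ← map_add]
    exact Ideal.Quotient.eq.mpr (Ψ_congr p b P h0 h)
  have hpw : ∀ (y : k2), π (Ψ p b (AH.Fsub p (2 * p) y)) ^ p =
      1 + π (C (b ^ p)) * π (MvPolynomial.map (ZMod.castHom (dvd_refl p) R) (y ^ p)) := by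
    intro y
    obtain ⟨h0, -, hpp⟩ := AH.coeff_Fsub_pow p (2 * p) hN y
    rw [← map_pow, ← map_pow, key _ h0, hpp]
    intro j hj0 hj hjp
    rw [AH.Fsub_pow, Polynomial.coeff_expand hp.pos, if_neg]
    rintro ⟨c, rfl⟩
    rcases c with _ | _ | c
    · simp at hj0
    · simp at hjp
    · nlinarith
  have hQ : π (Ψ p b (AH.Q p (2 * p))) =
      1 + π (C (b ^ p)) * π (X 0 ^ p + X 1 ^ p + Lazard.S p) := by
    rw [key _ (AH.Q_coeff_zero p _) (fun j hj0 hj hjp => AH.Q_coeff_eq_zero p _ j hj.le ?_),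
      AH.Q_coeff_p p _ hN, map_add (MvPolynomial.map _), map_add (MvPolynomial.map _),
      map_pow (MvPolynomial.map _), map_pow (MvPolynomial.map _), map_X, map_X, Lazard.map_S]
    rintro ⟨c, rfl⟩
    rcases c with _ | _ | c
    · simp at hj0
    · simp at hjp
    · nlinarith
  have hs := hpw (X 0)
  have hu := hpw (X 1)
  simp only [AH.Q, map_mul, map_pow, Ψ_Fsub, map_add, map_X] at hQ hs hu
  have hsq : π (C (b ^ p)) * π (C (b ^ p)) = 0 := by
    rw [← map_mul, ← C_mul, ← pow_add, ← two_mul]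
    exact Ideal.Quotient.eq_zero_iff_mem.mpr (Ideal.mem_span_singleton_self _)
  rw [← Ideal.Quotient.eq]
  show π (fS (fb p b)) = π (fX (fb p b) * fY (fb p b) * (1 + C (b ^ p) * Lazard.S p))
  simp only [map_mul, map_add, map_one, map_pow] at hsq hQ hs hu ⊢
  have hsplit : ∀ f : MvPolynomial (Fin 2) R ⧸ J, f ^ p = f ^ (p - 1) * f := fun f => by
    rw [← pow_succ, Nat.sub_add_cancel hp.one_le]
  rw [hsplit] at hs hu
  set β := π (C b) ^ p
  set A := π (fX (fb p b))
  set B := π (fY (fb p b))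
  set T := π (fS (fb p b))
  set S' := π (Lazard.S p)
  set x := π (X 0 : MvPolynomial (Fin 2) R) ^ p
  set y := π (X 1 : MvPolynomial (Fin 2) R) ^ p
  linear_combination (A * B * (1 - β * x) * (1 - β * y)) * hQ
    - (T * (1 - β * x) * (1 - β * y) * (B ^ (p - 1) * B)) * hs
    - (T * (1 - β * x) * (1 - β * y) * (1 + β * x)) * hu
    + (T * (x ^ 2 + y ^ 2 - β * β * x ^ 2 * y ^ 2) + A * B * (β * x * y * (x + y + S') + x * y - (x + y + S') * (x + y))) * hsq

/-- composite with `X ↦ X ^ p ^ i` -/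
theorem expand_congr (b : R) (i : ℕ) :
    fS (Polynomial.expand R (p ^ i) (fb p b)) -
      fX (Polynomial.expand R (p ^ i) (fb p b)) * fY (Polynomial.expand R (p ^ i) (fb p b)) *
        (1 + C (b ^ p) * Lazard.Spow p i) ∈
      Ideal.span {(C (b ^ (2 * p)) : MvPolynomial (Fin 2) R)} := by
  let φ : MvPolynomial (Fin 2) R →ₐ[R] MvPolynomial (Fin 2) R := aeval ![X 0 ^ p ^ i, X 1 ^ p ^ i]
  have h := Ideal.mem_span_singleton.mp (fb_congr p b)
  obtain ⟨w, hw⟩ := h
  refine Ideal.mem_span_singleton.mpr ⟨φ w, ?_⟩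
  have h2 := congrArg φ hw
  simp only [map_sub, map_mul, map_add, map_one, fS, fX, fY] at h2
  simp only [← Polynomial.aeval_algHom_apply, map_add, φ, aeval_X, Matrix.cons_val_zero,
    Matrix.cons_val_one, aeval_C, algebraMap_eq] at h2
  simp only [fS, fX, fY, Polynomial.expand_aeval, add_pow_char_pow]
  exact h2

omit [Fact p.Prime] [CharP R p] in
theorem prod_one_add {ι A : Type*} [CommRing A] (s : Finset ι) (c : ι → A)
    (h : ∀ i ∈ s, ∀ j ∈ s, c i * c j = 0) : ∏ i ∈ s, (1 + c i) = 1 + ∑ i ∈ s, c i := by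
  classical
  induction s using Finset.induction with
  | empty => simp
  | insert a s ha ih =>
    rw [Finset.prod_insert ha, Finset.sum_insert ha,
      ih fun i hi j hj => h i (Finset.mem_insert_of_mem hi) j (Finset.mem_insert_of_mem hj)]
    have : c a * ∑ i ∈ s, c i = 0 := by
      rw [Finset.mul_sum]
      exact Finset.sum_eq_zero fun i hi =>
        h a (Finset.mem_insert_self a s) i (Finset.mem_insert_of_mem hi)
    linear_combination this

omit [Fact p.Prime] [CharP R p] in
theorem mul_mem_map (I : Ideal R) {σ : Type*} (J : Ideal R) (hJ : I * I ≤ J)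
    {a b : MvPolynomial σ R} (ha : a ∈ I.map C) (hb : b ∈ I.map C) : a * b ∈ J.map C := by
  have := Ideal.mul_mem_mul ha hb
  rw [← Ideal.map_mul] at this
  exact Ideal.map_mono hJ this

omit [Fact p.Prime] [CharP R p] in
theorem aeval_mem_map (I : Ideal R) {σ τ : Type*} (v : σ → MvPolynomial τ R)
    {a : MvPolynomial σ R} (ha : a ∈ I.map C) : aeval v a ∈ I.map C := by
  have h := Ideal.mem_map_of_mem (aeval v).toRingHom ha
  rw [Ideal.map_map] at h
  have : (aeval v).toRingHom.comp C = C := RingHom.ext fun r => by simp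
  rwa [this] at h

variable (hF : Function.Surjective (frobenius R p))

include hF in
/-- One step of the successive approximation. -/
theorem exists_unit_congr (I J : Ideal R) (hII : I * I ≤ J) (hI : ∀ r ∈ I, IsNilpotent r)
    (h : MvPolynomial (Fin 2) R) (hh : h - 1 ∈ I.map C)
    (hsymm : aeval ![(X 1 : MvPolynomial (Fin 2) R), X 0] h = h)
    (hcoc : aeval ![(X 1 : MvPolynomial (Fin 3) R), X 2] h * aeval ![X 0, X 1 + X 2] h =
      aeval ![X 0 + X 1, X 2] h * aeval ![X 0, X 1] h) :
    ∃ f : Polynomial R, IsUnit f ∧ fS f - fX f * fY f * h ∈ J.map C := by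
  classical
  have hp : p.Prime := Fact.out
  have hpR : (p : R) = 0 := CharP.cast_eq_zero R p
  obtain ⟨G, N, r, hG, hr, -, hLz⟩ := Lazard.lazard p hpR I J (h - 1)
    (fun d => mem_map_C_iff.mp hh d)
    (fun d => by rw [map_sub, map_one, hsymm, sub_self, coeff_zero]; exact zero_mem _)
    (fun d => by
      refine mem_map_C_iff.mp ?_ d
      let π := Ideal.Quotient.mk (J.map (C : R →+* MvPolynomial (Fin 3) R))
      have hz : ∀ v w : Fin 2 → MvPolynomial (Fin 3) R,
          π ((aeval v h - 1) * (aeval w h - 1)) = 0 := fun v w =>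
        Ideal.Quotient.eq_zero_iff_mem.mpr (mul_mem_map I J hII
          (by simpa using aeval_mem_map I v hh) (by simpa using aeval_mem_map I w hh))
      refine Ideal.Quotient.eq_zero_iff_mem.mp ?_
      show π _ = 0
      have e := congrArg π hcoc
      have a := hz ![X 1, X 2] ![X 0, X 1 + X 2]
      have c := hz ![X 0 + X 1, X 2] ![X 0, X 1]
      simp only [Lazard.coc, map_add, map_sub, map_mul, map_one] at e a c ⊢
      linear_combination e - a + c)
  choose b hb using fun i => hF (r i)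
  simp only [frobenius_def] at hb
  let G1 : Polynomial R := 1 + G
  have hGnil : IsNilpotent G := Polynomial.isNilpotent_iff.mpr fun i => hI _ (hG i)
  refine ⟨G1 * ∏ i ∈ Finset.range N, Polynomial.expand R (p ^ i) (fb p (b i)), ?_, ?_⟩
  · refine IsUnit.mul hGnil.isUnit_one_add (IsUnit.prod_iff.mpr fun i _ => ?_)
    refine (isUnit_fb p ?_).map (Polynomial.expand R (p ^ i))
    obtain ⟨n, hn⟩ := hI _ (hr i)
    exact ⟨p * n, by rw [pow_mul, hb, hn]⟩
  · let π := Ideal.Quotient.mk (J.map (C : R →+* MvPolynomial (Fin 2) R))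
    rw [← Ideal.Quotient.eq]
    show π _ = π _
    have hz : ∀ a b : MvPolynomial (Fin 2) R, a ∈ I.map C → b ∈ I.map C → π a * π b = 0 :=
      fun a b ha hb => by
        rw [← map_mul]; exact Ideal.Quotient.eq_zero_iff_mem.mpr (mul_mem_map I J hII ha hb)
    have hGm : ∀ y : MvPolynomial (Fin 2) R, Polynomial.aeval y G ∈ I.map C := fun y => by
      rw [Polynomial.aeval_eq_sum_range]
      refine Ideal.sum_mem _ fun i _ => ?_
      rw [smul_eq_C_mul]
      exact Ideal.mul_mem_right _ _ (Ideal.mem_map_of_mem C (hG i))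
    have hG1 : π (fS G1) = π (fX G1) * π (fY G1) * (1 + π (dAdd G)) := by
      have h1 := hz _ _ (hGm (X 0)) (hGm (X 1))
      have h2 := hz _ _ (Ideal.add_mem _ (hGm (X 0)) (hGm (X 1)))
        (Ideal.sub_mem _ (Ideal.sub_mem _ (hGm (X 0 + X 1)) (hGm (X 0))) (hGm (X 1)))
      simp only [G1, dAdd, fS, fX, fY, map_add, map_one, map_sub, add_sub_cancel_left] at h1 h2 ⊢
      linear_combination -h1 * (1 + π (Polynomial.aeval (X 0 + X 1) G) -
        π (Polynomial.aeval (X 0) G) - π (Polynomial.aeval (X 1) G)) - h2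
    have hfac : ∀ i, π (fS (Polynomial.expand R (p ^ i) (fb p (b i)))) =
        π (fX (Polynomial.expand R (p ^ i) (fb p (b i)))) *
          π (fY (Polynomial.expand R (p ^ i) (fb p (b i)))) * (1 + π (C (r i) * Spow p i)) := by
      intro i
      rw [← hb i, ← map_one π, ← map_add, ← map_mul, ← map_mul, Ideal.Quotient.eq]
      refine (Ideal.span_singleton_le_iff_mem _).mpr ?_ (expand_congr p (b i) i)
      refine Ideal.mem_map_of_mem C (hII ?_)
      rw [two_mul, pow_add, hb]
      exact Ideal.mul_mem_mul (hr i) (hr i)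
    have hrI : ∀ i, C (r i) * Spow p i ∈ I.map (C : R →+* MvPolynomial (Fin 2) R) := fun i =>
      Ideal.mul_mem_right _ _ (Ideal.mem_map_of_mem C (hr i))
    have hdI : dAdd G ∈ I.map (C : R →+* MvPolynomial (Fin 2) R) :=
      Ideal.sub_mem _ (Ideal.sub_mem _ (hGm _) (hGm _)) (hGm _)
    have hc : π h = 1 + (π (dAdd G) + ∑ i ∈ Finset.range N, π (C (r i) * Spow p i)) := by
      rw [← map_sum π, ← map_add, ← map_one π, ← map_add, Ideal.Quotient.eq]
      refine mem_map_C_iff.mpr fun d => ?_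
      convert hLz d using 2
      ring
    have hprod : (1 + π (dAdd G)) * ∏ i ∈ Finset.range N, (1 + π (C (r i) * Spow p i)) = π h := by
      rw [prod_one_add _ _ (fun i _ j _ => hz _ _ (hrI i) (hrI j)), hc]
      have : π (dAdd G) * ∑ i ∈ Finset.range N, π (C (r i) * Spow p i) = 0 := by
        rw [Finset.mul_sum]; exact Finset.sum_eq_zero fun i _ => hz _ _ hdI (hrI i)
      linear_combination this
    simp only [fS, fX, fY, map_mul, map_prod] at hG1 hfac hprod ⊢
    rw [hG1, Finset.prod_congr rfl (fun i _ => hfac i), Finset.prod_mul_distrib,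
      Finset.prod_mul_distrib, ← hprod]
    ring

include hF in
theorem exists_splitting_aux (I : Ideal R) (K : ℕ) (hK : I ^ K = ⊥) :
    ∀ (d n : ℕ), 0 < n → K ≤ n + d → ∀ h : MvPolynomial (Fin 2) R, h - 1 ∈ (I ^ n).map C →
      aeval ![(X 1 : MvPolynomial (Fin 2) R), X 0] h = h →
      aeval ![(X 1 : MvPolynomial (Fin 3) R), X 2] h * aeval ![X 0, X 1 + X 2] h =
        aeval ![X 0 + X 1, X 2] h * aeval ![X 0, X 1] h →
      ∃ f : Polynomial R, IsUnit f ∧ fS f = fX f * fY f * h
  | 0, n, hn, hKn, h, hh, _, _ => by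
    have : (I ^ n : Ideal R) = ⊥ := eq_bot_iff.mpr (hK ▸ Ideal.pow_le_pow_right (by simpa using hKn))
    rw [this, Ideal.map_bot, Ideal.mem_bot, sub_eq_zero] at hh
    exact ⟨1, isUnit_one, by simp [fS, fX, fY, hh]⟩
  | d + 1, n, hn, hKn, h, hh, hsymm, hcoc => by
    have hnil : ∀ r ∈ I ^ n, IsNilpotent r := fun r hr => ⟨K, by
      have := Ideal.pow_mem_pow (Ideal.pow_le_self (Nat.pos_iff_ne_zero.mp hn) hr) K
      rwa [hK, Ideal.mem_bot] at this⟩
    obtain ⟨f, hf, hcong⟩ := exists_unit_congr p hF (I ^ n) (I ^ (n + 1))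
      (by rw [← pow_add]; exact Ideal.pow_le_pow_right (by omega)) hnil h hh hsymm hcoc
    obtain ⟨U, hU⟩ := (hf.map (Polynomial.aeval (X 0 + X 1 : MvPolynomial (Fin 2) R)))
    let h' := h * fX f * fY f * (↑U⁻¹ : MvPolynomial (Fin 2) R)
    have hdef : h' * fS f = h * (fX f * fY f) := by
      simp only [h', fS, ← hU]; rw [Units.inv_mul_cancel_right, mul_assoc]
    have hh' : h' - 1 ∈ (I ^ (n + 1)).map C := by
      have h1 : h' - 1 = -(fS f - fX f * fY f * h) * (↑U⁻¹ : MvPolynomial (Fin 2) R) := by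
        have h2 : fS f * (↑U⁻¹ : MvPolynomial (Fin 2) R) = 1 := by
          simp only [fS, ← hU, Units.mul_inv]
        simp only [h']
        linear_combination h2
      rw [h1]
      exact Ideal.mul_mem_right _ _ (neg_mem hcong)
    have hev : ∀ {σ : Type} (v w : MvPolynomial σ R),
        aeval ![v, w] h' * Polynomial.aeval (v + w) f =
          aeval ![v, w] h * (Polynomial.aeval v f * Polynomial.aeval w f) := by
      intro σ v w
      have := congrArg (aeval ![v, w]) hdef
      simpa only [map_mul, fS, fX, fY, ← Polynomial.aeval_algHom_apply, map_add, aeval_X,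
        Matrix.cons_val_zero, Matrix.cons_val_one] using this
    have hsymm' : aeval ![(X 1 : MvPolynomial (Fin 2) R), X 0] h' = h' := by
      refine (hf.map (Polynomial.aeval (X 0 + X 1 : MvPolynomial (Fin 2) R))).mul_right_cancel ?_
      have := hev (X 1 : MvPolynomial (Fin 2) R) (X 0)
      rw [hsymm, add_comm (X 1)] at this
      rw [this]
      show _ = h' * fS f
      rw [hdef, mul_comm (fX f)]
    have hcoc' : aeval ![(X 1 : MvPolynomial (Fin 3) R), X 2] h' * aeval ![X 0, X 1 + X 2] h' =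
        aeval ![X 0 + X 1, X 2] h' * aeval ![X 0, X 1] h' := by
      let T : MvPolynomial (Fin 3) R := Polynomial.aeval (X 0 + X 1 + X 2) f
      have hT : IsUnit T := hf.map _
      let a := Polynomial.aeval (X 0 : MvPolynomial (Fin 3) R) f
      let b := Polynomial.aeval (X 1 : MvPolynomial (Fin 3) R) f
      let c := Polynomial.aeval (X 2 : MvPolynomial (Fin 3) R) f
      have e1 := hev (X 1 : MvPolynomial (Fin 3) R) (X 2)
      have e2 := hev (X 0 : MvPolynomial (Fin 3) R) (X 1 + X 2)
      have e3 := hev (X 0 + X 1 : MvPolynomial (Fin 3) R) (X 2)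
      have e4 := hev (X 0 : MvPolynomial (Fin 3) R) (X 1)
      rw [← add_assoc] at e2
      set bc := Polynomial.aeval (X 1 + X 2 : MvPolynomial (Fin 3) R) f
      set ab := Polynomial.aeval (X 0 + X 1 : MvPolynomial (Fin 3) R) f
      have hbc : IsUnit bc := hf.map _
      have hab : IsUnit ab := hf.map _
      have l : aeval ![(X 1 : MvPolynomial (Fin 3) R), X 2] h' * aeval ![X 0, X 1 + X 2] h' * T =
          aeval ![(X 1 : MvPolynomial (Fin 3) R), X 2] h * aeval ![X 0, X 1 + X 2] h * (a * b * c) := by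
        refine hbc.mul_right_cancel ?_
        linear_combination (aeval ![X 0, X 1 + X 2] h' * T) * e1 +
          (aeval ![(X 1 : MvPolynomial (Fin 3) R), X 2] h * (b * c)) * e2
      have r : aeval ![(X 0 + X 1 : MvPolynomial (Fin 3) R), X 2] h' * aeval ![X 0, X 1] h' * T =
          aeval ![(X 0 + X 1 : MvPolynomial (Fin 3) R), X 2] h * aeval ![X 0, X 1] h * (a * b * c) := by
        refine hab.mul_right_cancel ?_
        linear_combination (aeval ![(X 0 + X 1 : MvPolynomial (Fin 3) R), X 2] h' * T) * e4 +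
          (aeval ![(X 0 : MvPolynomial (Fin 3) R), X 1] h * (a * b)) * e3
      refine hT.mul_right_cancel ?_
      rw [l, r, hcoc]
    obtain ⟨g, hg, hgeq⟩ := exists_splitting_aux I K hK d (n + 1) (by omega) (by omega) h' hh' hsymm' hcoc'
    refine ⟨f * g, hf.mul hg, ?_⟩
    simp only [fS, fX, fY, map_mul] at hgeq hdef ⊢
    linear_combination (Polynomial.aeval (X 0 + X 1 : MvPolynomial (Fin 2) R) f) * hgeq +
      (Polynomial.aeval (X 0 : MvPolynomial (Fin 2) R) g * Polynomial.aeval (X 1) g) * hdef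

include hF in
theorem exists_splitting (h : MvPolynomial (Fin 2) R) (hu : IsUnit h) (h00 : coeff 0 h = 1)
    (hsymm : aeval ![(X 1 : MvPolynomial (Fin 2) R), X 0] h = h)
    (hcoc : aeval ![(X 1 : MvPolynomial (Fin 3) R), X 2] h * aeval ![X 0, X 1 + X 2] h =
      aeval ![X 0 + X 1, X 2] h * aeval ![X 0, X 1] h) :
    ∃ f : Polynomial R, IsUnit f ∧ fS f = fX f * fY f * h := by
  classical
  let I : Ideal R := Ideal.span ((fun d => coeff d (h - 1)) '' ((h - 1).support : Set (Fin 2 →₀ ℕ)))
  have hnil : I ≤ nilradical R := by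
    rw [Ideal.span_le]
    rintro _ ⟨d, -, rfl⟩
    rcases eq_or_ne d 0 with rfl | hd
    · simp [h00]
    · show coeff d (h - 1) ∈ nilradical R
      rw [mem_nilradical, coeff_sub, coeff_one, if_neg (Ne.symm hd), sub_zero]
      exact (MvPolynomial.isUnit_iff.mp hu).2 d hd
  have hfg : I.FG := ⟨(h - 1).support.image (fun d => coeff d (h - 1)), by simp [I]⟩
  obtain ⟨K, hK⟩ := (Ideal.FG.isNilpotent_iff_le_nilradical hfg).mpr hnil
  refine exists_splitting_aux p hF I K hK K 1 one_pos (by omega) h ?_ hsymm hcoc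
  rw [pow_one, mem_map_C_iff]
  intro d
  by_cases hd : d ∈ (h - 1).support
  · exact Ideal.subset_span ⟨d, hd, rfl⟩
  · rw [notMem_support_iff.mp hd]; exact zero_mem _

end Groth.Agent.GaDual.Splitting
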